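import Mathlib.Topology.Sets.Opens
import Mathlib.Algebra.Group.Subgroup.Basic
import Mathlib.Algebra.Group.Hom.Basic
import Mathlib.Data.Finite.Defs
import Mathlib.Algebra.Group.Subgroup.Finite

/-!
# Abstract cohomology theories on the open subsets of a space

`OC X`: groups `H q U` for `U` open in `X`, restrictions, the Mayer-Vietoris sequence for two opens
(natural in the opens), and vanishing of classes of positive degree locally.
`PAb T`: presheaves of abelian groups on the opens of `T` and the property `LCat` of being locally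
constant with finite stalks along a subset.
-/

set_option autoImplicit false
universe w u

open TopologicalSpace

namespace Groth.Agent.An.H889.OCoh

/-- A cohomology theory on the opens of a space. -/
structure OC (X : Type u) [TopologicalSpace X] where
  H : ℕ → Opens X → Type w
  [grp : ∀ q U, AddCommGroup (H q U)]
  res : ∀ (q : ℕ) {U V : Opens X}, V ≤ U → H q U →+ H q V
  res_self : ∀ (q : ℕ) (U : Opens X) (a : H q U), res q le_rfl a = a
  res_res : ∀ (q : ℕ) {U V W : Opens X} (h : V ≤ U) (k : W ≤ V) (a : H q U),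
    res q k (res q h a) = res q (k.trans h) a
  d : ∀ (q : ℕ) (U V : Opens X), H q (U ⊓ V) →+ H (q + 1) (U ⊔ V)
  d_nat : ∀ (q : ℕ) {U V U' V' : Opens X} (hU : U' ≤ U) (hV : V' ≤ V) (x : H q (U ⊓ V)),
    res (q + 1) (sup_le_sup hU hV) (d q U V x) = d q U' V' (res q (inf_le_inf hU hV) x)
  sep : ∀ (U V : Opens X) (a : H 0 (U ⊔ V)), res 0 le_sup_left a = 0 →
    res 0 le_sup_right a = 0 → a = 0
  glue : ∀ (q : ℕ) (U V : Opens X) (a : H q U) (b : H q V),
    res q (inf_le_left : U ⊓ V ≤ U) a = res q (inf_le_right : U ⊓ V ≤ V) b →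
    ∃ c : H q (U ⊔ V), res q le_sup_left c = a ∧ res q le_sup_right c = b
  d_left : ∀ (q : ℕ) (U V : Opens X) (a : H q U), d q U V (res q inf_le_left a) = 0
  d_right : ∀ (q : ℕ) (U V : Opens X) (a : H q V), d q U V (res q inf_le_right a) = 0
  res_d_left : ∀ (q : ℕ) (U V : Opens X) (x : H q (U ⊓ V)), res (q + 1) le_sup_left (d q U V x) = 0
  res_d_right : ∀ (q : ℕ) (U V : Opens X) (x : H q (U ⊓ V)),
    res (q + 1) le_sup_right (d q U V x) = 0
  ex_d : ∀ (q : ℕ) (U V : Opens X) (c : H (q + 1) (U ⊔ V)), res (q + 1) le_sup_left c = 0 →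
    res (q + 1) le_sup_right c = 0 → ∃ x, d q U V x = c
  ex_x : ∀ (q : ℕ) (U V : Opens X) (x : H q (U ⊓ V)), d q U V x = 0 →
    ∃ (a : H q U) (b : H q V), x = res q inf_le_left a - res q inf_le_right b
  bot : ∀ (q : ℕ), Subsingleton (H q ⊥)
  locvan : ∀ (q : ℕ) (U : Opens X) (x : X), x ∈ U → ∀ c : H (q + 1) U,
    ∃ (V : Opens X) (h : V ≤ U), x ∈ V ∧ res (q + 1) h c = 0

attribute [instance] OC.grp

namespace OC

variable {X : Type u} [TopologicalSpace X] (h : OC.{w} X)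

theorem res_bij_of_eq (q : ℕ) {U V : Opens X} (k : V ≤ U) (k' : U ≤ V) :
    Function.Bijective (h.res q k) := by
  constructor
  · intro a b hab
    have := congrArg (h.res q k') hab
    rwa [h.res_res, h.res_res, h.res_self, h.res_self] at this
  · intro b
    exact ⟨h.res q k' b, by rw [h.res_res, h.res_self]⟩

/-- Gluing, flexible form. -/
theorem glue' (q : ℕ) {U V W : Opens X} (hU : U ≤ W) (hV : V ≤ W) (hW : W ≤ U ⊔ V)
    (a : h.H q U) (b : h.H q V)
    (e : h.res q (inf_le_left : U ⊓ V ≤ U) a = h.res q (inf_le_right : U ⊓ V ≤ V) b) :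
    ∃ c : h.H q W, h.res q hU c = a ∧ h.res q hV c = b := by
  obtain ⟨c, hc1, hc2⟩ := h.glue q U V a b e
  refine ⟨h.res q hW c, ?_, ?_⟩
  · rw [h.res_res]; exact hc1
  · rw [h.res_res]; exact hc2

/-- Separation, flexible form. -/
theorem sep' {U V W : Opens X} (hU : U ≤ W) (hV : V ≤ W) (hW : W ≤ U ⊔ V)
    (a : h.H 0 W) (ha : h.res 0 hU a = 0) (hb : h.res 0 hV a = 0) : a = 0 := by
  have e : h.res 0 (sup_le hU hV) a = 0 :=
    h.sep U V _ (by rw [h.res_res]; exact ha) (by rw [h.res_res]; exact hb)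
  exact (h.res_bij_of_eq 0 (sup_le hU hV) hW).1 (by rw [e, map_zero])

/-- The connecting map, flexible form. -/
def d' (q : ℕ) {U V W P : Opens X} (hW : W ≤ U ⊔ V) (hP : U ⊓ V ≤ P) (x : h.H q P) :
    h.H (q + 1) W :=
  h.res (q + 1) hW (h.d q U V (h.res q hP x))

theorem ex_d' (q : ℕ) {U V W P : Opens X} (hU : U ≤ W) (hV : V ≤ W) (hW : W ≤ U ⊔ V)
    (hP : U ⊓ V ≤ P) (hP' : P ≤ U ⊓ V)
    (c : h.H (q + 1) W) (ha : h.res (q + 1) hU c = 0) (hb : h.res (q + 1) hV c = 0) :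
    ∃ x : h.H q P, h.d' q hW hP x = c := by
  obtain ⟨x, hx⟩ := h.ex_d q U V (h.res (q + 1) (sup_le hU hV) c)
    (by rw [h.res_res]; exact ha) (by rw [h.res_res]; exact hb)
  refine ⟨h.res q hP' x, ?_⟩
  rw [d', h.res_res, h.res_self, hx, h.res_res, h.res_self]

theorem d'_eq_zero_iff (q : ℕ) {U V W P : Opens X} (hU : U ≤ W) (hV : V ≤ W) (hW : W ≤ U ⊔ V)
    (hP : U ⊓ V ≤ P) (hP' : P ≤ U ⊓ V) (x : h.H q P) :
    h.d' q hW hP x = 0 ↔ ∃ (a : h.H q U) (b : h.H q V),
      x = h.res q (hP'.trans inf_le_left) a - h.res q (hP'.trans inf_le_right) b := by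
  constructor
  · intro e
    have e1 : h.d q U V (h.res q hP x) = 0 :=
      (h.res_bij_of_eq (q + 1) hW (sup_le hU hV)).1 (by rw [map_zero]; exact e)
    obtain ⟨a, b, hab⟩ := h.ex_x q U V _ e1
    refine ⟨a, b, ?_⟩
    have := congrArg (h.res q hP') hab
    rw [h.res_res, h.res_self, map_sub, h.res_res, h.res_res] at this
    exact this
  · rintro ⟨a, b, rfl⟩
    rw [d', map_sub, h.res_res, h.res_res, map_sub, h.d_left, h.d_right, sub_zero, map_zero]

theorem res_d'_left (q : ℕ) {U V W P : Opens X} (hU : U ≤ W) (hW : W ≤ U ⊔ V)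
    (hP : U ⊓ V ≤ P) (x : h.H q P) : h.res (q + 1) hU (h.d' q hW hP x) = 0 := by
  rw [d', h.res_res]
  exact h.res_d_left q U V _

theorem res_d'_right (q : ℕ) {U V W P : Opens X} (hV : V ≤ W) (hW : W ≤ U ⊔ V)
    (hP : U ⊓ V ≤ P) (x : h.H q P) : h.res (q + 1) hV (h.d' q hW hP x) = 0 := by
  rw [d', h.res_res]
  exact h.res_d_right q U V _

theorem d'_nat (q : ℕ) {U V W P U' V' W' P' : Opens X} (hW : W ≤ U ⊔ V) (hP : U ⊓ V ≤ P)
    (hW' : W' ≤ U' ⊔ V') (hP' : U' ⊓ V' ≤ P') (kU : U' ≤ U) (kV : V' ≤ V) (kW : W' ≤ W)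
    (kP : P' ≤ P) (x : h.H q P) :
    h.res (q + 1) kW (h.d' q hW hP x) = h.d' q hW' hP' (h.res q kP x) := by
  rw [d', d', h.res_res, h.res_res]
  have := congrArg (h.res (q + 1) hW') (h.d_nat q kU kV (h.res q hP x))
  rw [h.res_res, h.res_res] at this
  exact this

theorem d'_add (q : ℕ) {U V W P : Opens X} (hW : W ≤ U ⊔ V) (hP : U ⊓ V ≤ P) (x y : h.H q P) :
    h.d' q hW hP (x + y) = h.d' q hW hP x + h.d' q hW hP y := by
  simp only [d', map_add]

theorem d'_sub (q : ℕ) {U V W P : Opens X} (hW : W ≤ U ⊔ V) (hP : U ⊓ V ≤ P) (x y : h.H q P) :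
    h.d' q hW hP (x - y) = h.d' q hW hP x - h.d' q hW hP y := by
  simp only [d', map_sub]

theorem d'_zero (q : ℕ) {U V W P : Opens X} (hW : W ≤ U ⊔ V) (hP : U ⊓ V ≤ P) :
    h.d' q hW hP (0 : h.H q P) = 0 := by
  simp only [d', map_zero]

/-- `V ⊆ U` induces an isomorphism in cohomology. -/
def Eqv (U V : Opens X) : Prop := ∃ k : V ≤ U, ∀ q, Function.Bijective (h.res q k)

variable {h}

theorem Eqv.refl (U : Opens X) : h.Eqv U U := ⟨le_rfl, fun q => h.res_bij_of_eq q _ le_rfl⟩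

theorem Eqv.of_eq {U V : Opens X} (e : U = V) : h.Eqv U V := by
  subst e; exact Eqv.refl _

theorem Eqv.trans {U V W : Opens X} (a : h.Eqv U V) (b : h.Eqv V W) : h.Eqv U W := by
  obtain ⟨k, hk⟩ := a
  obtain ⟨l, hl⟩ := b
  refine ⟨l.trans k, fun q => ?_⟩
  have : (h.res q (l.trans k) : h.H q U → h.H q W) = h.res q l ∘ h.res q k :=
    funext fun a => (h.res_res q k l a).symm
  rw [this]
  exact (hl q).comp (hk q)

/-- two out of three: from `W ⊆ V ⊆ U`. -/
theorem Eqv.of_left {U V W : Opens X} (k : V ≤ U) (a : h.Eqv U W) (b : h.Eqv V W) :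
    h.Eqv U V := by
  obtain ⟨m, hm⟩ := a
  obtain ⟨l, hl⟩ := b
  refine ⟨k, fun q => ?_⟩
  have : (h.res q m : h.H q U → h.H q W) = h.res q l ∘ h.res q k :=
    funext fun a => (h.res_res q k l a).symm
  have h1 := hm q
  rw [this] at h1
  exact (Function.Bijective.of_comp_iff' (hl q) _).1 h1

theorem Eqv.of_right {U V W : Opens X} (l : W ≤ V) (a : h.Eqv U V) (b : h.Eqv U W) :
    h.Eqv V W := by
  obtain ⟨k, hk⟩ := a
  obtain ⟨m, hm⟩ := b
  refine ⟨l, fun q => ?_⟩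
  have : (h.res q m : h.H q U → h.H q W) = h.res q l ∘ h.res q k :=
    funext fun a => (h.res_res q k l a).symm
  have h1 := hm q
  rw [this] at h1
  exact (Function.Bijective.of_comp_iff _ (hk q)).1 h1

/-- Excision: if `V ⊇ U ⊓ V` induces isomorphisms then so does `W = U ⊔ V ⊇ U`. -/
theorem Eqv.sup {U V W P : Opens X} (hU : U ≤ W) (hV : V ≤ W) (hW : W ≤ U ⊔ V)
    (hP : U ⊓ V ≤ P) (hP' : P ≤ U ⊓ V) (e : h.Eqv V P) : h.Eqv W U := by
  obtain ⟨k, hk⟩ := e
  refine ⟨hU, fun q => ⟨?_, ?_⟩⟩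
  · rw [injective_iff_map_eq_zero]
    intro c hc
    have hc2 : h.res q hV c = 0 := by
      apply (hk q).1
      rw [h.res_res, map_zero]
      have := congrArg (h.res q (hP'.trans inf_le_left)) hc
      rw [h.res_res, map_zero] at this
      exact this
    rcases q with _ | q
    · exact h.sep' hU hV hW c hc hc2
    · obtain ⟨x, hx⟩ := h.ex_d' q hU hV hW hP hP' c hc hc2
      obtain ⟨b, hb⟩ := (hk q).2 x
      rw [← hx, h.d'_eq_zero_iff q hU hV hW hP hP']
      refine ⟨0, -b, ?_⟩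
      rw [map_zero, map_neg, zero_sub, neg_neg, hb]
  · intro a
    obtain ⟨b, hb⟩ := (hk q).2 (h.res q (hP'.trans inf_le_left) a)
    obtain ⟨c, hc, -⟩ := h.glue' q hU hV hW a b (by
      have := congrArg (h.res q hP) hb
      rw [h.res_res, h.res_res] at this
      exact this.symm)
    exact ⟨c, hc⟩

end OC

/-- Presheaves of abelian groups on the opens of a space. -/
structure PAb (T : Type u) [TopologicalSpace T] where
  F : Opens T → Type w
  [grp : ∀ V, AddCommGroup (F V)]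
  res : ∀ {U V : Opens T}, V ≤ U → F U →+ F V
  res_self : ∀ (U : Opens T) (a : F U), res le_rfl a = a
  res_res : ∀ {U V W : Opens T} (h : V ≤ U) (k : W ≤ V) (a : F U),
    res k (res h a) = res (k.trans h) a

attribute [instance] PAb.grp

namespace PAb

variable {T : Type u} [TopologicalSpace T] (P : PAb.{w} T)

/-- `Σ ⊆ P(V)` maps isomorphically to the stalk at `t`. -/
def Gen {V : Opens T} (S : AddSubgroup (P.F V)) (t : T) : Prop :=
  (∀ s ∈ S, ∀ (V' : Opens T) (k : V' ≤ V), t ∈ V' → P.res k s = 0 → s = 0) ∧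
  ∀ (V' : Opens T), t ∈ V' → ∀ g : P.F V', ∃ s ∈ S, ∃ (V'' : Opens T) (k : V'' ≤ V) (k' : V'' ≤ V'),
    t ∈ V'' ∧ P.res k s = P.res k' g

/-- `P` is locally constant with finite stalks along `Z`, near `z`. -/
def LCat (Z : Set T) (z : T) : Prop :=
  ∃ V : Opens T, z ∈ V ∧ ∃ S : AddSubgroup (P.F V), Finite S ∧ ∀ t ∈ V, t ∈ Z → P.Gen S t

variable {P}

/-- restriction of a generating subgroup. -/
theorem Gen.map {V V₁ : Opens T} (k : V₁ ≤ V) {S : AddSubgroup (P.F V)} {t : T} (ht : t ∈ V₁)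
    (hS : P.Gen S t) : P.Gen (S.map (P.res k)) t := by
  refine ⟨?_, ?_⟩
  · rintro _ ⟨s, hs, rfl⟩ V' k' ht' h0
    rw [P.res_res] at h0
    rw [hS.1 s hs V' _ ht' h0, map_zero]
  · intro V' ht' g
    obtain ⟨s, hs, V'', k1, k2, ht'', e⟩ := hS.2 V' ht' g
    refine ⟨_, ⟨s, hs, rfl⟩, V'' ⊓ V₁, inf_le_right, inf_le_left.trans k2, ⟨ht'', ht⟩, ?_⟩
    rw [P.res_res]
    have := congrArg (P.res (inf_le_left : V'' ⊓ V₁ ≤ V'')) e
    rw [P.res_res, P.res_res] at this
    exact this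

/-- One may shrink the open set in `LCat`. -/
theorem LCat.exists_le {Z : Set T} {z : T} (h : P.LCat Z z) {W : Opens T} (hz : z ∈ W) :
    ∃ V : Opens T, z ∈ V ∧ V ≤ W ∧ ∃ S : AddSubgroup (P.F V), Finite S ∧
      ∀ t ∈ V, t ∈ Z → P.Gen S t := by
  obtain ⟨V, hzV, S, hfin, hS⟩ := h
  refine ⟨V ⊓ W, ⟨hzV, hz⟩, inf_le_right, S.map (P.res inf_le_left), ?_, ?_⟩
  · have : (S.map (P.res (inf_le_left : V ⊓ W ≤ V)) : Set (P.F (V ⊓ W))) =
        P.res (inf_le_left : V ⊓ W ≤ V) '' (S : Set (P.F V)) := rfl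
    have h2 : (P.res (inf_le_left : V ⊓ W ≤ V) '' (S : Set (P.F V))).Finite :=
      (Set.toFinite (S : Set (P.F V))).image _
    exact h2.to_subtype
  · intro t ht hZ
    exact (hS t ht.1 hZ).map _ ht

/-- Restriction to a smaller open set, keeping the same one for the subgroup. -/
theorem exists_gen_le {Z : Set T} {z : T} {V W : Opens T} (_hz : z ∈ W) (k : W ≤ V)
    {S : AddSubgroup (P.F V)} [Finite S] (hS : ∀ t ∈ V, t ∈ Z → P.Gen S t) :
    ∃ S' : AddSubgroup (P.F W), Finite S' ∧ ∀ t ∈ W, t ∈ Z → P.Gen S' t := by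
  refine ⟨S.map (P.res k), ?_, fun t ht hZ => (hS t (k ht) hZ).map _ ht⟩
  exact ((Set.toFinite (S : Set (P.F V))).image (P.res k)).to_subtype

end PAb

end Groth.Agent.An.H889.OCoh
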