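import Groth.Agent.An.H526.T3Aff
import Groth.Agent.An.H888.ClsLeray
import Groth.Agent.An.H884.ClPush
import Groth.Agent.An.H866.T2Defs
import Mathlib.Topology.KrullDimension

/-!
# Definitions for the induction `T(d)`

`Aff d = Spec ℂ[x_1, …, x_d]`; `TProp d`: `R^q ε_{Y*} M = 0` for all `Y` of dimension `≤ d`, all finite
`M`, all `q > 0`; `FibOut d`: every affine `Y` of dimension `≤ d + 1` has a morphism `f` to `Aff d` with
`R^q f_* M = 0` for `q ≥ 2` and `f_* M`, `R^1 f_* M` in `Acal`.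
-/

set_option autoImplicit false

open CategoryTheory AlgebraicGeometry TopologicalSpace Topology Opposite Limits

noncomputable section

namespace Groth.Agent.An.H889.TDefs

open Groth.Agent.An.H884.ClBC Groth.Agent.An.H884.ClPush Groth.Agent.An.H888.ClsLeray
open Groth.Agent.An.H866.T2Defs

/-- Affine space over `ℂ`. -/
def Aff (d : ℕ) : Scheme.{0} := H526.T3.AS ℂ d

instance (d : ℕ) : (Aff d).Over An.SC := ⟨H526.T3.strS ℂ d⟩

theorem aff_over (d : ℕ) : (Aff d ↘ An.SC) = H526.T3.strS ℂ d := rfl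

instance (d : ℕ) : IsAffine (Aff d) := inferInstanceAs (IsAffine (Spec _))

instance (d : ℕ) : LocallyOfFiniteType (Aff d ↘ An.SC) := by
  rw [aff_over]
  have h : (MvPolynomial.C : ℂ →+* MvPolynomial (Fin d) ℂ).FiniteType := by
    have h0 : Algebra.FiniteType ℂ (MvPolynomial (Fin d) ℂ) := inferInstance
    have h1 := (RingHom.finiteType_algebraMap (A := ℂ) (B := MvPolynomial (Fin d) ℂ)).2 h0
    rwa [MvPolynomial.algebraMap_eq] at h1
  exact (HasRingHomProperty.Spec_iff (P := @LocallyOfFiniteType)).2 h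

/-- `R^q ε_{Y*} M = 0`, `q > 0`, for `Y` of dimension `≤ d`. -/
def TProp (d : ℕ) : Prop := ∀ (Y : Scheme.{0}) [Y.Over An.SC] [LocallyOfFiniteType (Y ↘ An.SC)]
  [Fact An.EtaleLH] [An.EpsCont Y], topologicalKrullDim Y ≤ (d : ℕ) →
  ∀ (M : Type) [AddCommGroup M] [Finite M] (q : ℕ), 0 < q →
    IsZero ((An.epsRpush Y q).obj (An.Cl.const (An.Pts Y) M))

/-- Output of Noether normalization for affine `Y` of dimension `≤ d + 1`. -/
def FibOut (d : ℕ) : Prop := ∀ (Y : Scheme.{0}) [Y.Over An.SC] [LocallyOfFiniteType (Y ↘ An.SC)]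
  [IsAffine Y], topologicalKrullDim Y ≤ (d + 1 : ℕ) → ∀ (M : Type) [AddCommGroup M] [Finite M],
  ∃ (f : Y ⟶ Aff d) (_ : f.IsOver An.SC),
    DiesFrom.{1, 1} (clBC (An.Pts.mapC f)) (An.Cl.topology (An.Pts (Aff d))) 2
      (An.Cl.const (An.Pts Y) M) ∧
    Acal (Aff d) ((clPush (An.Pts.mapC f)).obj (An.Cl.const (An.Pts Y) M)) ∧
    ∀ (K : ShortComplex (An.Cl.Ab (An.Pts Y))), K.ShortExact → Injective K.X₂ →
      K.X₁ = An.Cl.const (An.Pts Y) M → Acal (Aff d) (cokernel ((clPush (An.Pts.mapC f)).map K.g))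

end Groth.Agent.An.H889.TDefs
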