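import Groth.Agent.An.H889.PabLoc
import Groth.Agent.An.H537.Cosheaf

/-!
# Abstract comparison of `H^0`, `H^1` with the sections of `Ψ G` and `coker (Ψ I → Ψ Q)`

`Z : Opens T ⥤ ℬ` a cosheaf, `Z' : Opens T ⥤ 𝒜` a functor, `Ψ : 𝒜 ⥤ ℬ` with
`Hom(Z V, Ψ G) = Hom(Z' V, G)`.
-/

set_option autoImplicit false
universe w v u v' u' t

open CategoryTheory Limits Abelian TopologicalSpace

noncomputable section

namespace Groth.Agent.An.H889.AbsOne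

open Groth.Agent.An.H537 Gen Cosheaf OCoh PabLoc

variable {T : Type t} [TopologicalSpace T] {𝒜 : Type u} [Category.{v} 𝒜] [Abelian 𝒜]
  {ℬ : Type u'} [Category.{v'} ℬ] [Abelian ℬ]

/-- `V ↦ Ext^q(Z' V, G)`. -/
def extPab [HasExt.{w} 𝒜] (Z' : Opens T ⥤ 𝒜) (G : 𝒜) (q : ℕ) : PAb.{w} T where
  F V := Ext.{w} (Z'.obj V) G q
  res h := Gen.res Z' G q (homOfLE h)
  res_self _ a := r_refl G q a
  res_res h k a := r_r G q h k a

theorem extPab_res [HasExt.{w} 𝒜] (Z' : Opens T ⥤ 𝒜) (G : 𝒜) (q : ℕ) {V V' : Opens T}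
    (h : V' ≤ V) (a : Ext.{w} (Z'.obj V) G q) :
    (extPab Z' G q).res h a = (Ext.mk₀ (ι Z' h)).comp a (zero_add q) := rfl

/-- `V ↦ Hom(Z V, G)`. -/
def homPab (Z : Opens T ⥤ ℬ) (G : ℬ) : PAb.{v'} T where
  F V := Z.obj V ⟶ G
  res h := AddMonoidHom.mk' (fun s => ι Z h ≫ s) (fun _ _ => Preadditive.comp_add _ _ _ _ _ _)
  res_self U a := by
    change ι Z (le_refl U) ≫ a = a
    rw [ι_refl, Category.id_comp]
  res_res h k a := by
    change ι Z k ≫ ι Z h ≫ a = ι Z (k.trans h) ≫ a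
    rw [← Category.assoc, ι_comp]

theorem homPab_res (Z : Opens T ⥤ ℬ) (G : ℬ) {V V' : Opens T} (h : V' ≤ V) (s : Z.obj V ⟶ G) :
    (homPab Z G).res h s = ι Z h ≫ s := rfl

/-- `Hom(Z V, Ψ G) = Hom(Z' V, G)`, naturally. -/
structure HomEq (Z : Opens T ⥤ ℬ) (Z' : Opens T ⥤ 𝒜) (Ψ : 𝒜 ⥤ ℬ) where
  e : ∀ (G : 𝒜) (V : Opens T), (Z.obj V ⟶ Ψ.obj G) ≃+ (Z'.obj V ⟶ G)
  res : ∀ (G : 𝒜) {V V' : Opens T} (h : V' ≤ V) (s : Z.obj V ⟶ Ψ.obj G),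
    e G V' (ι Z h ≫ s) = ι Z' h ≫ e G V s
  post : ∀ {G G' : 𝒜} (u : G ⟶ G') (V : Opens T) (s : Z.obj V ⟶ Ψ.obj G),
    e G' V (s ≫ Ψ.map u) = e G V s ≫ u

variable {Z : Opens T ⥤ ℬ} {Z' : Opens T ⥤ 𝒜} {Ψ : 𝒜 ⥤ ℬ} (E : HomEq Z Z' Ψ) [HasExt.{w} 𝒜]

/-- Degree zero. -/
def isoZero (G : 𝒜) : LocIso (extPab Z' G 0) (homPab Z (Ψ.obj G)) :=
  LocIso.ofEquiv (fun V => Ext.addEquiv₀.trans (E.e G V).symm) (by
    intro V V' h a
    obtain ⟨s, rfl⟩ := (Ext.mk₀_bijective _ _).2 a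
    have e0 : ∀ {A B : 𝒜} (u : A ⟶ B), Ext.addEquiv₀ (Ext.mk₀ u : Ext A B 0) = u :=
      fun u => Ext.addEquiv₀.apply_symm_apply u
    change ι Z h ≫ (E.e G V).symm (Ext.addEquiv₀ (Ext.mk₀ s)) =
      (E.e G V').symm (Ext.addEquiv₀ ((Ext.mk₀ (ι Z' h)).comp (Ext.mk₀ s) (zero_add 0)))
    rw [Ext.mk₀_comp_mk₀, e0, e0]
    apply (E.e G V').injective
    rw [E.res, AddEquiv.apply_symm_apply, AddEquiv.apply_symm_apply])

section One

variable {S : ShortComplex 𝒜} (hS : S.ShortExact)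

/-- The boundary of a section of `S.X₃`. -/
def bd (V : Opens T) : (Z.obj V ⟶ Ψ.obj S.X₃) →+ Ext.{w} (Z'.obj V) S.X₁ 1 :=
  AddMonoidHom.mk' (fun s => (Ext.mk₀ (E.e S.X₃ V s)).comp hS.extClass (zero_add 1)) (by
    intro a b
    rw [map_add, Ext.mk₀_add, Ext.add_comp])

theorem bd_apply (V : Opens T) (s : Z.obj V ⟶ Ψ.obj S.X₃) :
    bd E hS V s = (Ext.mk₀ (E.e S.X₃ V s)).comp hS.extClass (zero_add 1) := rfl

theorem bd_res {V V' : Opens T} (h : V' ≤ V) (s : Z.obj V ⟶ Ψ.obj S.X₃) :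
    bd.{w} E hS V' (ι Z h ≫ s) = (Ext.mk₀ (ι Z' h)).comp (bd E hS V s) (zero_add 1) := by
  rw [bd_apply, bd_apply, E.res, Ext.mk₀_comp_mk₀_assoc]

theorem bd_surjective [Injective S.X₂] (V : Opens T) : Function.Surjective (bd.{w} E hS V) := by
  intro x
  obtain ⟨y, hy⟩ := Ext.covariant_sequence_exact₁ _ hS x
    (Ext.eq_zero_of_injective (n := 0) _) (zero_add 1)
  obtain ⟨s, rfl⟩ := (Ext.mk₀_bijective _ _).2 y
  refine ⟨(E.e S.X₃ V).symm s, ?_⟩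
  rw [bd_apply, AddEquiv.apply_symm_apply]
  exact hy

theorem bd_eq_zero_iff (V : Opens T) (s : Z.obj V ⟶ Ψ.obj S.X₃) :
    bd.{w} E hS V s = 0 ↔ ∃ t : Z.obj V ⟶ Ψ.obj S.X₂, t ≫ Ψ.map S.g = s := by
  constructor
  · intro h
    obtain ⟨y, hy⟩ := Ext.covariant_sequence_exact₃ _ hS (Ext.mk₀ (E.e S.X₃ V s)) (zero_add 1) h
    obtain ⟨t, rfl⟩ := (Ext.mk₀_bijective _ _).2 y
    rw [Ext.mk₀_comp_mk₀] at hy
    have h2 := (Ext.mk₀_bijective _ _).1 hy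
    refine ⟨(E.e S.X₂ V).symm t, ?_⟩
    apply (E.e S.X₃ V).injective
    rw [E.post, AddEquiv.apply_symm_apply, h2]
  · rintro ⟨t, rfl⟩
    rw [bd_apply, E.post, ← Ext.mk₀_comp_mk₀, Ext.comp_assoc_of_second_deg_zero,
      ShortComplex.ShortExact.comp_extClass, Ext.comp_zero]

/-- The map `Ext^1(Z' V, S.X₁) → Hom(Z V, coker (Ψ I → Ψ Q))`. -/
def phi1 [Injective S.X₂] (V : Opens T) : Ext.{w} (Z'.obj V) S.X₁ 1 →+
    (Z.obj V ⟶ cokernel (Ψ.map S.g)) :=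
  AddMonoidHom.liftOfSurjective (bd E hS V) (bd_surjective E hS V)
    ⟨AddMonoidHom.mk' (fun s => s ≫ cokernel.π (Ψ.map S.g))
      (fun _ _ => Preadditive.add_comp _ _ _ _ _ _), by
      intro s hs
      obtain ⟨t, rfl⟩ := (bd_eq_zero_iff E hS V s).1 hs
      change (t ≫ Ψ.map S.g) ≫ cokernel.π (Ψ.map S.g) = 0
      rw [Category.assoc, cokernel.condition, comp_zero]⟩

theorem phi1_bd [Injective S.X₂] (V : Opens T) (s : Z.obj V ⟶ Ψ.obj S.X₃) :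
    phi1.{w} E hS V (bd E hS V s) = s ≫ cokernel.π (Ψ.map S.g) :=
  AddMonoidHom.liftOfRightInverse_comp_apply _ _ _ _ _

omit [HasExt.{w} 𝒜] in
/-- Local lifting of sections killed in the cokernel. -/
theorem exists_lift_of_comp_cokernel (hZ : IsCosheaf Z) {A B : ℬ} (u : A ⟶ B) (V : Opens T)
    (s : Z.obj V ⟶ B) (hs : s ≫ cokernel.π u = 0) (t : T) (ht : t ∈ V) :
    ∃ (V' : Opens T) (h : V' ≤ V), t ∈ V' ∧ ∃ s' : Z.obj V' ⟶ A, s' ≫ u = ι Z h ≫ s := by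
  let f1 : A ⟶ kernel (cokernel.π u) := kernel.lift _ u (cokernel.condition _)
  have hf1 : f1 ≫ kernel.ι (cokernel.π u) = u := kernel.lift_ι _ _ _
  have hepi : Epi f1 := by
    have : (ShortComplex.mk u (cokernel.π u) (cokernel.condition _)).Exact :=
      ShortComplex.exact_cokernel _
    exact this.epi_kernelLift
  obtain ⟨V', h, htV', s', hs'⟩ := hZ.lift f1 (kernel.lift _ s hs) t ht
  refine ⟨V', h, htV', s', ?_⟩
  have := congrArg (fun z => z ≫ kernel.ι (cokernel.π u)) hs'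
  rw [Category.assoc, hf1, Category.assoc, kernel.lift_ι] at this
  exact this

/-- `Ext^1(Z' V, S.X₁)` is locally the group of sections of the cokernel. -/
def isoOne (hZ : IsCosheaf Z) [Injective S.X₂] :
    LocIso (extPab Z' S.X₁ 1) (homPab Z (cokernel (Ψ.map S.g))) where
  φ V := phi1 E hS V
  nat {V V'} h a := by
    obtain ⟨s, rfl⟩ := bd_surjective E hS V a
    change ι Z h ≫ phi1 E hS V (bd E hS V s) =
      phi1 E hS V' ((Ext.mk₀ (ι Z' h)).comp (bd E hS V s) (zero_add 1))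
    rw [← bd_res, phi1_bd, phi1_bd, Category.assoc]
  inj V a h0 t ht := by
    obtain ⟨s, rfl⟩ := bd_surjective E hS V a
    have h0' : s ≫ cokernel.π (Ψ.map S.g) = 0 := (phi1_bd E hS V s).symm.trans h0
    obtain ⟨V', h, htV', s', hs'⟩ := exists_lift_of_comp_cokernel hZ _ V s h0' t ht
    refine ⟨V', h, htV', ?_⟩
    change (Ext.mk₀ (ι Z' h)).comp (bd E hS V s) (zero_add 1) = 0
    rw [← bd_res, bd_eq_zero_iff]
    exact ⟨s', hs'⟩
  surj V b t ht := by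
    obtain ⟨V', h, htV', s, hs⟩ := hZ.lift (cokernel.π (Ψ.map S.g)) b t ht
    exact ⟨V', h, htV', bd E hS V' s, (phi1_bd E hS V' s).trans hs⟩

end One

end Groth.Agent.An.H889.AbsOne
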