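import Groth.Agent.An.H889.TopMain
import Groth.Agent.An.H809.PushLC

/-!
# Local homeomorphisms along a stratum: `AlongT` from `OnePt`
-/

set_option autoImplicit false

open TopologicalSpace Topology

namespace Groth.Agent.An.H889.AlongOf

open ConstF TopMain Chain Groth.Agent.An.H809.PushLC

/-- Relative version of `OnePt` for a subset of the source. -/
def OnePtS {Q T : Type} [TopologicalSpace Q] [TopologicalSpace T] (f : Q → T) (W : Set Q)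
    (Z : Set T) (z : T) : Prop :=
  ∀ y ∈ W, f y = z → ∀ N : Set Q, IsOpen N → y ∈ N → ∃ N' : Set Q, IsOpen N' ∧ N' ⊆ N ∧ y ∈ N' ∧
    ∃ V : Set T, IsOpen V ∧ z ∈ V ∧ ∀ t ∈ V, t ∈ Z → ∃! y', (y' ∈ N' ∧ y' ∈ W) ∧ f y' = t

variable {Q Q' T : Type} [TopologicalSpace Q] [TopologicalSpace Q'] [TopologicalSpace T]

theorem OnePtS.of_onePt {g : C(Q', T)} {Z : Set T} {z : T} (h : OnePt g Z z) {f : Q → T}
    (j : Q' → Q) (hj : IsEmbedding j) (hf : ∀ x, f (j x) = g x) :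
    OnePtS f (Set.range j) Z z := by
  rintro _ ⟨y, rfl⟩ hy N hN hyN
  obtain ⟨N₁, hN₁, hN₁N, hyN₁, V, hV, hzV, hu⟩ := h y (by rw [← hf, hy]) (j ⁻¹' N)
    (hN.preimage hj.continuous) hyN
  obtain ⟨N₂, hN₂, rfl⟩ := hj.isInducing.isOpen_iff.1 hN₁
  refine ⟨N₂ ∩ N, hN₂.inter hN, Set.inter_subset_right, ⟨hyN₁, hyN⟩, V, hV, hzV, fun t ht htZ => ?_⟩
  obtain ⟨y', ⟨hy', hyt⟩, huniq⟩ := hu t ht htZ
  refine ⟨j y', ⟨⟨⟨hy', hN₁N hy'⟩, y', rfl⟩, by rw [hf]; exact hyt⟩, ?_⟩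
  rintro _ ⟨⟨⟨h1, h2⟩, ⟨x, rfl⟩⟩, h3⟩
  rw [huniq x ⟨h1, by rw [← hf]; exact h3⟩]

variable {E : Type} [TopologicalSpace E] {π : C(E, ℂ × T)} {D : Set (ℂ × T)} {Z : Set T} {z : T}

/-- `AlongT` from the two one-point statements. -/
theorem alongT_of (hD : OnePtS (Prod.snd : ℂ × T → T) D Z z)
    (hW : OnePtS (pr π : E → T) (π ⁻¹' D) Z z) : AlongT π D Z z where
  up e he hez := by
    refine ⟨?_, ?_⟩
    · intro N heN
      obtain ⟨ND, hND, -, heND, VD, hVD, hzVD, huD⟩ := hD (π e) he hez Set.univ isOpen_univ trivial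
      obtain ⟨N', hN', hN'N, heN', V, hV, hzV, hu⟩ := hW e he hez (N ∩ π ⁻¹' ND)
        (N.2.inter (hND.preimage π.continuous)) ⟨heN, heND⟩
      refine ⟨⟨ND ∩ Prod.snd ⁻¹' (V ∩ VD), hND.inter ((hV.inter hVD).preimage continuous_snd)⟩,
        ⟨heND, by rw [Set.mem_preimage, hez]; exact ⟨hzV, hzVD⟩⟩, ?_⟩
      rintro p ⟨hpND, hpV, hpVD⟩ ⟨hpD, hpZ⟩
      obtain ⟨e', ⟨⟨he'N, he'D⟩, he't⟩, -⟩ := hu p.2 hpV hpZ
      refine ⟨e', (hN'N he'N).1, ?_⟩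
      exact (huD p.2 hpVD hpZ).unique ⟨⟨(hN'N he'N).2, he'D⟩, he't⟩ ⟨⟨hpND, hpD⟩, rfl⟩
    · obtain ⟨N', hN', -, heN', V, hV, hzV, hu⟩ := hW e he hez Set.univ isOpen_univ trivial
      refine ⟨⟨N' ∩ (fun x => (π x).2) ⁻¹' V,
        hN'.inter (hV.preimage (continuous_snd.comp π.continuous))⟩,
        ⟨heN', by rw [Set.mem_preimage, hez]; exact hzV⟩, ?_⟩
      rintro e' ⟨he'N, he'V⟩ e'' ⟨he''N, he''V⟩ ⟨hD', hZ'⟩ heq
      refine (hu (π e').2 he'V hZ').unique ⟨⟨he'N, hD'⟩, rfl⟩ ⟨⟨he''N, ?_⟩, ?_⟩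
      · rw [Set.mem_preimage, ← heq]
        exact hD'
      · change (π e'').2 = _
        rw [heq]
  ex c hc N hcN := by
    obtain ⟨N', hN', hN'N, -, V, hV, hzV, hu⟩ := hD (c, z) hc rfl N N.2 hcN
    refine ⟨⟨V, hV⟩, hzV, fun t ht htZ => ?_⟩
    obtain ⟨⟨c', t'⟩, ⟨⟨h1, h2⟩, h3⟩, -⟩ := hu t ht htZ
    change t' = t at h3
    subst h3
    exact ⟨c', h2, hN'N h1⟩
  uniq c hc := by
    obtain ⟨N', hN', -, hcN', V, hV, hzV, hu⟩ := hD (c, z) hc rfl Set.univ isOpen_univ trivial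
    refine ⟨⟨N' ∩ Prod.snd ⁻¹' V, hN'.inter (hV.preimage continuous_snd)⟩, ⟨hcN', hzV⟩, ?_⟩
    rintro c' c'' t htZ h' h'' ⟨h1, h1'⟩ ⟨h2, h2'⟩
    exact congrArg Prod.fst ((hu t h1' htZ).unique ⟨⟨h1, h'⟩, rfl⟩ ⟨⟨h2, h''⟩, rfl⟩)

/-- `Ram` from a closed map with finite fibres. -/
theorem ram_of (g : Q' → T) (j : Q' → ℂ × T) (hj : Continuous j) (hD : Set.range j = D)
    (hg : ∀ x, (j x).2 = g x) (hcl : IsClosedMap g) (hfin : ∀ t, (g ⁻¹' {t}).Finite) : Ram D where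
  fin t := by
    have h1 : {z : ℂ | (z, t) ∈ D} ⊆ (fun x => (j x).1) '' (g ⁻¹' {t}) := by
      intro z hz
      change (z, t) ∈ D at hz
      rw [← hD] at hz
      obtain ⟨x, hx⟩ := hz
      refine ⟨x, ?_, congrArg Prod.fst hx⟩
      change g x = t
      rw [← hg, hx]
    exact ((hfin t).image _).subset h1
  prop t U hU := by
    have hc : IsClosed {x : Q' | (j x).1 ∉ U} :=
      (U.2.preimage (continuous_fst.comp hj)).isClosed_compl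
    refine ⟨⟨(g '' {x : Q' | (j x).1 ∉ U})ᶜ, (hcl _ hc).isOpen_compl⟩, ?_, ?_⟩
    · rintro ⟨x, hx, hxt⟩
      apply hx
      apply hU
      rw [← hD]
      refine ⟨x, ?_⟩
      rw [← hxt, ← hg]
    · intro t' ht' z hz
      rw [← hD] at hz
      obtain ⟨x, hx⟩ := hz
      by_contra hzU
      apply ht'
      refine ⟨x, ?_, ?_⟩
      · change (j x).1 ∉ U
        rw [hx]
        exact hzU
      · rw [← hg, hx]

end Groth.Agent.An.H889.AlongOf
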