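import Groth.Agent.An.H889.Strip
import Mathlib.Data.Set.Finite.Basic
import Mathlib.Data.Set.Finite.Lattice
import Mathlib.Data.Set.Card

/-!
# Cohomology of strips

Local analysis, near a point of `T`, of `V ↦ H^q(strip × V)` for a tame cohomology theory on `ℂ × T`.
-/

set_option autoImplicit false
universe w u

open TopologicalSpace

namespace Groth.Agent.An.H889.Chain

open OCoh Strip

variable {T : Type u} [TopologicalSpace T]

/-- `D → T` is finite: finite fibres and closed. -/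
structure Ram (D : Set (ℂ × T)) : Prop where
  fin : ∀ t : T, {z : ℂ | (z, t) ∈ D}.Finite
  prop : ∀ (t : T) (U : Opens ℂ), (∀ z, (z, t) ∈ D → z ∈ U) →
    ∃ V : Opens T, t ∈ V ∧ ∀ t' ∈ V, ∀ z, (z, t') ∈ D → z ∈ U

/-- `V ↦ H^q(f V)`. -/
abbrev pab (h : OC.{w} (ℂ × T)) (u : ℂ) (I : Opens ℝ) (q : ℕ) : PAb.{w} T where
  F V := h.H q (bx u I ⊤ V)
  res k := h.res q (bx_mono le_rfl le_rfl k)
  res_self _ _ := h.res_self _ _ _
  res_res _ _ _ := h.res_res _ _ _ _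

/-- The points of `D_t` outside the strip are at positive distance from it. -/
def Sep (D : Set (ℂ × T)) (u : ℂ) (I : Opens ℝ) (t : T) : Prop :=
  ∀ c : ℂ, (c, t) ∈ D → (u * c).re ∉ I → ∃ η > 0, ∀ x ∈ I, η ≤ |x - (u * c).re|

variable {h : OC.{w} (ℂ × T)} {𝓥 : Set (Opens T)} {D : Set (ℂ × T)}

/-- the open square. -/
def sq (u c : ℂ) (δ : ℝ) : Opens ℂ :=
  ⟨{z | |(u * z).re - (u * c).re| < δ ∧ |(u * z).im - (u * c).im| < δ}, by
    refine IsOpen.inter ?_ ?_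
    · exact isOpen_lt ((Complex.continuous_re.comp (continuous_const.mul continuous_id)).sub
        continuous_const).abs continuous_const
    · exact isOpen_lt ((Complex.continuous_im.comp (continuous_const.mul continuous_id)).sub
        continuous_const).abs continuous_const⟩

@[simp] theorem mem_sq {u c z : ℂ} {δ : ℝ} :
    z ∈ sq u c δ ↔ |(u * z).re - (u * c).re| < δ ∧ |(u * z).im - (u * c).im| < δ := Iff.rfl

/-- Near `t` the ramification is concentrated near `D_t`. -/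
theorem Ram.near (hD : Ram D) (u : ℂ) (t : T) {δ : ℝ} (hδ : 0 < δ) :
    ∃ V : Opens T, t ∈ V ∧ ∀ t' ∈ V, ∀ z, (z, t') ∈ D → ∃ c, (c, t) ∈ D ∧ z ∈ sq u c δ := by
  obtain ⟨V, hV, h⟩ := hD.prop t (⨆ c : {c : ℂ | (c, t) ∈ D}, sq u c.1 δ) (by
    intro z hz
    rw [Opens.mem_iSup]
    exact ⟨⟨z, hz⟩, by simpa using hδ⟩)
  refine ⟨V, hV, fun t' ht' z hz => ?_⟩
  have := h t' ht' z hz
  rw [Opens.mem_iSup] at this
  obtain ⟨c, hc⟩ := this
  exact ⟨c.1, c.2, hc⟩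

/-- A common distance. -/
theorem Sep.exists_delta (hD : Ram D) {u : ℂ} {I : Opens ℝ} {t : T} (hs : Sep D u I t) :
    ∃ η > 0, ∀ c, (c, t) ∈ D → (u * c).re ∉ I → ∀ x ∈ I, η ≤ |x - (u * c).re| := by
  classical
  have hfin := hD.fin t
  choose! f hf0 hf using hs
  by_cases hne : ∃ c, (c, t) ∈ D ∧ (u * c).re ∉ I
  · have hfin2 : {c : ℂ | (c, t) ∈ D ∧ (u * c).re ∉ I}.Finite := hfin.subset fun c hc => hc.1
    obtain ⟨c₀, hc₀⟩ := hne
    obtain ⟨m, hm, hmin⟩ := Set.exists_min_image _ f hfin2 ⟨c₀, hc₀⟩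
    exact ⟨f m, hf0 m hm.1 hm.2, fun c hc hc' x hx => (hmin c ⟨hc, hc'⟩).trans (hf c hc hc' x hx)⟩
  · refine ⟨1, one_pos, fun c hc hc' => ?_⟩
    exact absurd ⟨c, hc, hc'⟩ hne

/-- If no point of `D_t` lies in the strip, the strip is unramified near `t`. -/
theorem Sep.unr (hD : Ram D) {u : ℂ} {I : Opens ℝ} {t : T} (hs : Sep D u I t)
    (h0 : ∀ c, (c, t) ∈ D → (u * c).re ∉ I) :
    ∃ V : Opens T, t ∈ V ∧ ∀ V' : Opens T, V' ≤ V → Unr D (bx u I ⊤ V') := by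
  obtain ⟨η, hη, hs'⟩ := hs.exists_delta hD
  obtain ⟨V, hV, hn⟩ := hD.near u t hη
  refine ⟨V, hV, fun V' hV' p hp hpD => ?_⟩
  obtain ⟨c, hc, hz⟩ := hn p.2 (hV' hp.2.2) p.1 hpD
  have := hs' c hc (h0 c hc) _ hp.1
  exact absurd hz.1 (not_lt.2 this)

/-- If `c` is the only point of `D_t` in the strip, then near `t` the ramification in the strip is
near `c`. -/
theorem Sep.near_one (hD : Ram D) {u : ℂ} {I : Opens ℝ} {t : T} (hs : Sep D u I t) {c : ℂ}
    (h1 : ∀ c', (c', t) ∈ D → (u * c').re ∈ I → c' = c) {δ : ℝ} (hδ : 0 < δ) :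
    ∃ V : Opens T, t ∈ V ∧ ∀ V' : Opens T, V' ≤ V → ∀ p ∈ bx u I ⊤ V', p ∈ D →
      |(u * p.1).re - (u * c).re| < δ ∧ |(u * p.1).im - (u * c).im| < δ := by
  obtain ⟨η, hη, hs'⟩ := hs.exists_delta hD
  obtain ⟨V, hV, hn⟩ := hD.near u t (lt_min hη hδ)
  refine ⟨V, hV, fun V' hV' p hp hpD => ?_⟩
  obtain ⟨c', hc', hz⟩ := hn p.2 (hV' hp.2.2) p.1 hpD
  by_cases hcI : (u * c').re ∈ I
  · obtain rfl := h1 c' hc' hcI
    exact ⟨hz.1.trans_le (min_le_right _ _), hz.2.trans_le (min_le_right _ _)⟩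
  · exact absurd (hz.1.trans_le (min_le_left _ _)) (not_lt.2 (hs' c' hc' hcI _ hp.1))

/-- Small square boxes form a neighbourhood basis. -/
theorem exists_box_le {u : ℂ} (hu : u ≠ 0) {c : ℂ} {t : T} {N : Opens (ℂ × T)} (hN : (c, t) ∈ N) :
    ∃ ε > 0, ∃ V : Opens T, t ∈ V ∧ ∀ z, z ∈ sq u c ε → ∀ t' ∈ V, (z, t') ∈ N := by
  obtain ⟨A, B, hA, hB, hcA, htB, hAB⟩ := isOpen_prod_iff.1 N.2 c t hN
  obtain ⟨r, hr, hrA⟩ := Metric.isOpen_iff.1 hA c hcA
  have hu' : 0 < ‖u‖ := norm_pos_iff.2 hu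
  refine ⟨r * ‖u‖ / 2, by positivity, ⟨B, hB⟩, htB, fun z hz t' ht' => hAB ⟨hrA ?_, ht'⟩⟩
  rw [Metric.mem_ball, dist_eq_norm]
  have h1 : ‖u * (z - c)‖ ≤ |(u * (z - c)).re| + |(u * (z - c)).im| :=
    Complex.norm_le_abs_re_add_abs_im _
  have h2 : (u * (z - c)).re = (u * z).re - (u * c).re := by rw [mul_sub, Complex.sub_re]
  have h3 : (u * (z - c)).im = (u * z).im - (u * c).im := by rw [mul_sub, Complex.sub_im]
  rw [h2, h3, norm_mul] at h1
  have h4 : ‖u‖ * ‖z - c‖ < ‖u‖ * r := by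
    have := hz.1
    have := hz.2
    linarith
  exact lt_of_mul_lt_mul_left h4 hu'.le

/-- If a square box is contained in a strip then so is its first interval. -/
theorem up_dn_le {u : ℂ} (hu : u ≠ 0) {c : ℂ} {t : T} {I J : Opens ℝ} {V : Opens T} {ε : ℝ}
    (hε : 0 < ε) (hb : ∀ z, z ∈ sq u c ε → (z, t) ∈ bx u I J V) :
    up ((u * c).re - ε) ⊓ dn ((u * c).re + ε) ≤ I := by
  rintro x ⟨a, b⟩
  have a' : (u * c).re - ε < x := a
  have b' : x < (u * c).re + ε := b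
  have e : u * ((x + (u * c).im * Complex.I) / u) = x + (u * c).im * Complex.I := by
    field_simp
  have hz : ((x + (u * c).im * Complex.I) / u) ∈ sq u c ε := by
    refine ⟨?_, ?_⟩
    · rw [e, Complex.add_re, Complex.ofReal_re, Complex.re_ofReal_mul, Complex.I_re, mul_zero,
        add_zero, abs_lt]
      constructor <;> linarith
    · rw [e]
      simpa using hε
  have := (hb _ hz).1
  rw [e] at this
  simpa using this

theorem sq_bx_le {u : ℂ} {c : ℂ} {ε : ℝ} {V : Opens T} {N : Opens (ℂ × T)}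
    (hb : ∀ z, z ∈ sq u c ε → ∀ t' ∈ V, (z, t') ∈ N) :
    bx u (up ((u * c).re - ε) ⊓ dn ((u * c).re + ε))
      (up ((u * c).im - ε) ⊓ dn ((u * c).im + ε)) V ≤ N := by
  rintro p ⟨⟨a1, a1'⟩, ⟨a2, a2'⟩, a3⟩
  refine hb p.1 ⟨?_, ?_⟩ p.2 a3
  · rw [abs_lt]
    have b1 : (u * c).re - ε < (u * p.1).re := a1
    have b2 : (u * p.1).re < (u * c).re + ε := a1'
    constructor <;> linarith
  · rw [abs_lt]
    have b1 : (u * c).im - ε < (u * p.1).im := a2
    have b2 : (u * p.1).im < (u * c).im + ε := a2'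
    constructor <;> linarith

/-- The key consequence of the strip lemma: a class on `strip × V'` which vanishes near the only
ramification point over `t` vanishes near `t`. -/
theorem Tame.kill (hT : Tame h 𝓥 D) (hD : Ram D) {u : ℂ} (hu : u ≠ 0) {I : Opens ℝ}
    (hI : (I : Set ℝ).OrdConnected) {t : T} (hs : Sep D u I t) {c : ℂ}
    (h1 : ∀ c', (c', t) ∈ D → (u * c').re ∈ I → c' = c) (q : ℕ) {V' : Opens T} (ht : t ∈ V')
    (g : h.H q (bx u I ⊤ V')) {N : Opens (ℂ × T)} (hN : N ≤ bx u I ⊤ V') (hcN : (c, t) ∈ N)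
    (hg : h.res q hN g = 0) :
    ∃ (V'' : Opens T) (k : V'' ≤ V'), t ∈ V'' ∧ h.res q (bx_mono le_rfl le_rfl k) g = 0 := by
  obtain ⟨ε, hε, V₁, hV₁, hbox⟩ := exists_box_le hu hcN
  obtain ⟨V₂, hV₂, hram⟩ := hs.near_one hD h1 (half_pos hε)
  obtain ⟨V'', hV'', htV'', hle⟩ := hT.basis t (V₁ ⊓ V₂ ⊓ V') ⟨⟨hV₁, hV₂⟩, ht⟩
  have k : V'' ≤ V' := hle.trans inf_le_right
  refine ⟨V'', k, htV'', ?_⟩
  have hsq : bx u (up ((u * c).re - ε) ⊓ dn ((u * c).re + ε))
      (up ((u * c).im - ε) ⊓ dn ((u * c).im + ε)) V'' ≤ N :=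
    sq_bx_le fun z hz t' ht' => hbox z hz t' (hle ht').1.1
  have hI0 : up ((u * c).re - ε) ⊓ dn ((u * c).re + ε) ≤ I :=
    up_dn_le hu hε fun z hz => hN (hbox z hz t hV₁)
  have E := hT.strip hu (I := I) (J := ⊤) (x := (u * c).re) (y := (u * c).im) hI
    (by rw [Opens.coe_top]; exact Set.ordConnected_univ) (half_pos hε) (half_lt_self hε) hI0 le_top
    hV'' (fun p hp hpD => by
      have := hram V'' (hle.trans (inf_le_left.trans inf_le_right)) p hp hpD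
      exact ⟨this.1.le, this.2.le⟩)
  obtain ⟨k2, hk2⟩ := E
  apply (hk2 q).1
  rw [h.res_res, map_zero]
  have := congrArg (h.res q hsq) hg
  rw [h.res_res, map_zero] at this
  exact this

/-- Cutting a strip between two ramification points. -/
theorem exists_cut {D : Set (ℂ × T)} (hD : Ram D) {u : ℂ} {I : Opens ℝ}
    {t : T} (hs : Sep D u I t) {c₁ c₂ : ℂ} (hlt : (u * c₁).re < (u * c₂).re) :
    ∃ a b : ℝ, a < b ∧ (u * c₁).re < a ∧ b < (u * c₂).re ∧
      (∀ c, (c, t) ∈ D → (u * c).re ≤ a ∨ b ≤ (u * c).re) ∧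
      Sep D u (I ⊓ dn b) t ∧ Sep D u (I ⊓ up a) t ∧ Sep D u (I ⊓ dn b ⊓ (I ⊓ up a)) t ∧
      (∀ c, (c, t) ∈ D → (u * c).re ∉ I ⊓ dn b ⊓ (I ⊓ up a)) := by
  classical
  -- the finitely many values
  have hfin : ((fun c : ℂ => (u * c).re) '' {c : ℂ | (c, t) ∈ D}).Finite := (hD.fin t).image _
  -- find an interval without values
  obtain ⟨m, hm1, hm2, hm3⟩ : ∃ m, (u * c₁).re < m ∧ m < (u * c₂).re ∧
      m ∉ ((fun c : ℂ => (u * c).re) '' {c : ℂ | (c, t) ∈ D}) := by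
    have hinf : (Set.Ioo (u * c₁).re (u * c₂).re).Infinite := Set.Ioo_infinite hlt
    obtain ⟨m, hm, hm'⟩ := (hinf.sdiff hfin).nonempty
    exact ⟨m, hm.1, hm.2, hm'⟩
  have hopen : IsOpen (((fun c : ℂ => (u * c).re) '' {c : ℂ | (c, t) ∈ D})ᶜ ∩
      Set.Ioo (u * c₁).re (u * c₂).re) := hfin.isClosed.isOpen_compl.inter isOpen_Ioo
  obtain ⟨r, hr, hball⟩ := Metric.isOpen_iff.1 hopen m ⟨hm3, hm1, hm2⟩
  have hin : ∀ x, |x - m| < r → x ∉ ((fun c : ℂ => (u * c).re) '' {c : ℂ | (c, t) ∈ D}) ∧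
      (u * c₁).re < x ∧ x < (u * c₂).re := fun x hx => by
    have := hball (Metric.mem_ball.2 (by rw [Real.dist_eq]; exact hx))
    exact ⟨this.1, this.2.1, this.2.2⟩
  have hr4 : 0 < r / 4 := by linarith
  refine ⟨m - r / 4, m + r / 4, by linarith, ?_, ?_, ?_, ?_, ?_, ?_, ?_⟩
  · exact (hin (m - r / 4) (by rw [abs_lt]; constructor <;> linarith)).2.1
  · exact (hin (m + r / 4) (by rw [abs_lt]; constructor <;> linarith)).2.2
  · intro c hc
    by_contra hcon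
    rw [not_or, not_le, not_le] at hcon
    exact (hin (u * c).re (by rw [abs_lt]; constructor <;> linarith [hcon.1, hcon.2])).1
      ⟨c, hc, rfl⟩
  · intro c hc hcI
    by_cases hcI' : (u * c).re ∈ I
    · have h3 : ¬ (u * c).re < m + r / 4 := fun hlt' => hcI ⟨hcI', hlt'⟩
      have h4 : m + r / 2 ≤ (u * c).re := by
        by_contra hcon
        rw [not_le] at hcon
        exact (hin (u * c).re (by rw [abs_lt]; constructor <;> linarith)).1 ⟨c, hc, rfl⟩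
      refine ⟨r / 4, hr4, fun x hx => ?_⟩
      have hx2 : x < m + r / 4 := hx.2
      rw [abs_of_neg (by linarith)]
      linarith
    · obtain ⟨η, hη, hs'⟩ := hs c hc hcI'
      exact ⟨η, hη, fun x hx => hs' x hx.1⟩
  · intro c hc hcI
    by_cases hcI' : (u * c).re ∈ I
    · have h3 : ¬ m - r / 4 < (u * c).re := fun hlt' => hcI ⟨hcI', hlt'⟩
      have h4 : (u * c).re ≤ m - r / 2 := by
        by_contra hcon
        rw [not_le] at hcon
        exact (hin (u * c).re (by rw [abs_lt]; constructor <;> linarith)).1 ⟨c, hc, rfl⟩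
      refine ⟨r / 4, hr4, fun x hx => ?_⟩
      have hx2 : m - r / 4 < x := hx.2
      rw [abs_of_pos (by linarith)]
      linarith
    · obtain ⟨η, hη, hs'⟩ := hs c hc hcI'
      exact ⟨η, hη, fun x hx => hs' x hx.1⟩
  · intro c hc _
    have h4 : (u * c).re ≤ m - r / 2 ∨ m + r / 2 ≤ (u * c).re := by
      by_contra hcon
      rw [not_or, not_le, not_le] at hcon
      exact (hin (u * c).re (by rw [abs_lt]; constructor <;> linarith [hcon.1, hcon.2])).1
        ⟨c, hc, rfl⟩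
    refine ⟨r / 4, hr4, fun x hx => ?_⟩
    have hx2 : m - r / 4 < x := hx.2.2
    have hx3 : x < m + r / 4 := hx.1.2
    rcases h4 with h4 | h4
    · rw [abs_of_pos (by linarith)]; linarith
    · rw [abs_of_neg (by linarith)]; linarith
  · intro c hc hcI
    have hx2 : m - r / 4 < (u * c).re := hcI.2.2
    have hx3 : (u * c).re < m + r / 4 := hcI.1.2
    exact (hin (u * c).re (by rw [abs_lt]; constructor <;> linarith)).1 ⟨c, hc, rfl⟩

end Groth.Agent.An.H889.Chain
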