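import Groth.Agent.An.H889.Chain

/-!
# Cohomology of strips, II: vanishing in degrees `≥ 2`, local constancy in degrees `0`, `1`
-/

set_option autoImplicit false
universe w u

open TopologicalSpace

namespace Groth.Agent.An.H889.Chain2

open OCoh Strip Chain

variable {T : Type u} [TopologicalSpace T] {h : OC.{w} (ℂ × T)} {𝓥 : Set (Opens T)}
  {D : Set (ℂ × T)}

theorem subsingleton_of_le_bot (h : OC.{w} (ℂ × T)) (q : ℕ) {U : Opens (ℂ × T)} (k : U ≤ ⊥) :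
    Subsingleton (h.H q U) := by
  have := h.bot q
  exact (h.res_bij_of_eq q (bot_le : (⊥ : Opens (ℂ × T)) ≤ U) k).1.subsingleton

theorem subsingleton_of_empty (h : OC.{w} (ℂ × T)) (q : ℕ) (u : ℂ) {I : Opens ℝ}
    (hI : ¬ ∃ x, x ∈ I) (V : Opens T) : Subsingleton (h.H q (bx u I ⊤ V)) :=
  subsingleton_of_le_bot h q fun _ hp => (hI ⟨_, hp.1⟩).elim

/-- The points of `D_t` in the strip. -/
def pts (D : Set (ℂ × T)) (u : ℂ) (I : Opens ℝ) (t : T) : Set ℂ := {c | (c, t) ∈ D ∧ (u * c).re ∈ I}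

theorem finite_pts (hD : Ram D) (u : ℂ) (I : Opens ℝ) (t : T) : (pts D u I t).Finite :=
  (hD.fin t).subset fun _ hc => hc.1

/-- Induction over the number of ramification points in a strip. -/
theorem strip_induction (hD : Ram D) {u : ℂ} {t : T}
    (hinj : ∀ c c', (c, t) ∈ D → (c', t) ∈ D → (u * c).re = (u * c').re → c = c')
    (P : Opens ℝ → Prop)
    (h0 : ∀ I : Opens ℝ, (I : Set ℝ).OrdConnected → Sep D u I t →
      (∀ c, (c, t) ∈ D → (u * c).re ∉ I) → P I)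
    (h1 : ∀ I : Opens ℝ, (I : Set ℝ).OrdConnected → Sep D u I t → ∀ c, (c, t) ∈ D →
      (u * c).re ∈ I → (∀ c', (c', t) ∈ D → (u * c').re ∈ I → c' = c) → P I)
    (h2 : ∀ I I₁ I₂ : Opens ℝ, I₁ ≤ I → I₂ ≤ I → I ≤ I₁ ⊔ I₂ → IsIv (I₁ ⊓ I₂) →
      Sep D u (I₁ ⊓ I₂) t → (∀ c, (c, t) ∈ D → (u * c).re ∉ I₁ ⊓ I₂) → P I₁ → P I₂ → P I) :
    ∀ I : Opens ℝ, (I : Set ℝ).OrdConnected → Sep D u I t → P I := by
  suffices H : ∀ n : ℕ, ∀ I : Opens ℝ, (I : Set ℝ).OrdConnected → Sep D u I t →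
      (pts D u I t).ncard = n → P I from fun I hI hs => H _ I hI hs rfl
  intro n
  induction n using Nat.strong_induction_on with
  | _ n ih =>
    intro I hI hs hn
    by_cases hne : ∃ c, (c, t) ∈ D ∧ (u * c).re ∈ I
    · obtain ⟨c, hc, hcI⟩ := hne
      by_cases huniq : ∀ c', (c', t) ∈ D → (u * c').re ∈ I → c' = c
      · exact h1 I hI hs c hc hcI huniq
      · push Not at huniq
        obtain ⟨c', hc', hcI', hne⟩ := huniq
        -- order them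
        obtain ⟨c₁, c₂, hc₁, hc₂, h1I, h2I, hlt⟩ : ∃ c₁ c₂, (c₁, t) ∈ D ∧ (c₂, t) ∈ D ∧
            (u * c₁).re ∈ I ∧ (u * c₂).re ∈ I ∧ (u * c₁).re < (u * c₂).re := by
          rcases lt_trichotomy (u * c).re (u * c').re with hl | hl | hl
          · exact ⟨c, c', hc, hc', hcI, hcI', hl⟩
          · exact absurd (hinj c c' hc hc' hl).symm hne
          · exact ⟨c', c, hc', hc, hcI', hcI, hl⟩
        obtain ⟨a, b, hab, ha, hb, hcut, s1, s2, s3, hno⟩ := exists_cut hD hs hlt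
        have lt1 : (pts D u (I ⊓ dn b) t).ncard < n := by
          rw [← hn]
          refine Set.ncard_lt_ncard ?_ (finite_pts hD u I t)
          refine ⟨fun x hx => ⟨hx.1, hx.2.1⟩, fun hcon => ?_⟩
          have h3 : (u * c₂).re < b := (hcon ⟨hc₂, h2I⟩ : c₂ ∈ pts D u (I ⊓ dn b) t).2.2
          linarith
        have lt2 : (pts D u (I ⊓ up a) t).ncard < n := by
          rw [← hn]
          refine Set.ncard_lt_ncard ?_ (finite_pts hD u I t)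
          refine ⟨fun x hx => ⟨hx.1, hx.2.1⟩, fun hcon => ?_⟩
          have h3 : a < (u * c₁).re := (hcon ⟨hc₁, h1I⟩ : c₁ ∈ pts D u (I ⊓ up a) t).2.2
          linarith
        refine h2 I (I ⊓ dn b) (I ⊓ up a) inf_le_left inf_le_left ?_ ?_ s3 hno
          (ih _ lt1 _ (ordConnected_inf hI (ordConnected_dn _)) s1 rfl)
          (ih _ lt2 _ (ordConnected_inf hI (ordConnected_up _)) s2 rfl)
        · intro x hx
          by_cases hxb : x < b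
          · exact Or.inl ⟨hx, hxb⟩
          · exact Or.inr ⟨hx, show a < x by linarith [not_lt.1 hxb]⟩
        · refine ⟨ordConnected_inf (ordConnected_inf hI (ordConnected_dn _))
            (ordConnected_inf hI (ordConnected_up _)), (a + b) / 2, ?_⟩
          have hm : (a + b) / 2 ∈ I := by
            have := hI.out h1I h2I
            exact this ⟨by linarith, by linarith⟩
          exact ⟨⟨hm, show (a + b) / 2 < b by linarith⟩, hm, show a < (a + b) / 2 by linarith⟩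
    · push Not at hne
      exact h0 I hI hs hne

/-- The Mayer-Vietoris step for vanishing. -/
theorem van_mv (hT : Tame h 𝓥 D) (hD : Ram D) {u : ℂ} (hu : u ≠ 0) {t : T} {I I₁ I₂ : Opens ℝ}
    (k₁ : I₁ ≤ I) (k₂ : I₂ ≤ I) (k : I ≤ I₁ ⊔ I₂) (iv : IsIv (I₁ ⊓ I₂))
    (hs : Sep D u (I₁ ⊓ I₂) t) (hno : ∀ c, (c, t) ∈ D → (u * c).re ∉ I₁ ⊓ I₂)
    (h1 : ∀ (q : ℕ) (W : Opens T), t ∈ W → ∀ ξ : h.H (q + 2) (bx u I₁ ⊤ W),
      ∃ (V : Opens T) (l : V ≤ W), t ∈ V ∧ h.res (q + 2) (bx_mono le_rfl le_rfl l) ξ = 0)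
    (h2 : ∀ (q : ℕ) (W : Opens T), t ∈ W → ∀ ξ : h.H (q + 2) (bx u I₂ ⊤ W),
      ∃ (V : Opens T) (l : V ≤ W), t ∈ V ∧ h.res (q + 2) (bx_mono le_rfl le_rfl l) ξ = 0) :
    ∀ (q : ℕ) (W : Opens T), t ∈ W → ∀ ξ : h.H (q + 2) (bx u I ⊤ W),
      ∃ (V : Opens T) (l : V ≤ W), t ∈ V ∧ h.res (q + 2) (bx_mono le_rfl le_rfl l) ξ = 0 := by
  intro q W htW ξ
  obtain ⟨V₁, l₁, ht₁, e₁⟩ := h1 q W htW (h.res (q + 2) (bx_mono k₁ le_rfl le_rfl) ξ)
  obtain ⟨V₂, l₂, ht₂, e₂⟩ := h2 q W htW (h.res (q + 2) (bx_mono k₂ le_rfl le_rfl) ξ)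
  obtain ⟨V₃, ht₃, hunr⟩ := hs.unr hD hno
  obtain ⟨V, hV, htV, hle⟩ := hT.basis t (V₁ ⊓ V₂ ⊓ V₃) ⟨⟨ht₁, ht₂⟩, ht₃⟩
  have m₁ : V ≤ V₁ := hle.trans (inf_le_left.trans inf_le_left)
  have m₂ : V ≤ V₂ := hle.trans (inf_le_left.trans inf_le_right)
  have m₃ : V ≤ V₃ := hle.trans inf_le_right
  refine ⟨V, m₁.trans l₁, htV, ?_⟩
  have hU : bx u I₁ ⊤ V ≤ bx u I ⊤ V := bx_mono k₁ le_rfl le_rfl
  have hV' : bx u I₂ ⊤ V ≤ bx u I ⊤ V := bx_mono k₂ le_rfl le_rfl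
  have hW : bx u I ⊤ V ≤ bx u I₁ ⊤ V ⊔ bx u I₂ ⊤ V := by
    rintro p ⟨a1, a2, a3⟩
    rcases k a1 with b | b
    · exact Or.inl ⟨b, a2, a3⟩
    · exact Or.inr ⟨b, a2, a3⟩
  have hP : bx u I₁ ⊤ V ⊓ bx u I₂ ⊤ V ≤ bx u (I₁ ⊓ I₂) ⊤ V := fun p hp =>
    ⟨⟨hp.1.1, hp.2.1⟩, hp.1.2⟩
  have hP' : bx u (I₁ ⊓ I₂) ⊤ V ≤ bx u I₁ ⊤ V ⊓ bx u I₂ ⊤ V := fun p hp =>
    ⟨⟨hp.1.1, hp.2⟩, ⟨hp.1.2, hp.2⟩⟩
  obtain ⟨x, hx⟩ := h.ex_d' (q + 1) hU hV' hW hP hP'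
    (h.res (q + 2) (bx_mono le_rfl le_rfl (m₁.trans l₁)) ξ) (by
      rw [h.res_res]
      have := congrArg (h.res (q + 2) (bx_mono le_rfl le_rfl m₁ : bx u I₁ ⊤ V ≤ bx u I₁ ⊤ V₁)) e₁
      rw [h.res_res, h.res_res, map_zero] at this
      exact this) (by
      rw [h.res_res]
      have := congrArg (h.res (q + 2) (bx_mono le_rfl le_rfl m₂ : bx u I₂ ⊤ V ≤ bx u I₂ ⊤ V₂)) e₂
      rw [h.res_res, h.res_res, map_zero] at this
      exact this)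
  have := hT.van u hu (I₁ ⊓ I₂) ⊤ V iv isIv_top hV (hunr V m₃) q
  rw [← hx, Subsingleton.elim x 0, h.d'_zero]

/-- (A): classes of degree `≥ 2` on strips vanish locally on `T`. -/
theorem vanish (hT : Tame h 𝓥 D) (hD : Ram D) {u : ℂ} (hu : u ≠ 0) {t : T}
    (hinj : ∀ c c', (c, t) ∈ D → (c', t) ∈ D → (u * c).re = (u * c').re → c = c') :
    ∀ I : Opens ℝ, (I : Set ℝ).OrdConnected → Sep D u I t →
    ∀ (q : ℕ) (W : Opens T), t ∈ W → ∀ ξ : h.H (q + 2) (bx u I ⊤ W),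
      ∃ (V : Opens T) (l : V ≤ W), t ∈ V ∧ h.res (q + 2) (bx_mono le_rfl le_rfl l) ξ = 0 := by
  apply strip_induction hD hinj
  · intro I hI hs h0 q W htW ξ
    obtain ⟨V₁, hV₁, hunr⟩ := hs.unr hD h0
    obtain ⟨V, hV, htV, hle⟩ := hT.basis t (V₁ ⊓ W) ⟨hV₁, htW⟩
    refine ⟨V, hle.trans inf_le_right, htV, ?_⟩
    by_cases hne : ∃ x, x ∈ I
    · have := hT.van u hu I ⊤ V ⟨hI, hne⟩ isIv_top hV (hunr V (hle.trans inf_le_left)) (q + 1)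
      exact Subsingleton.elim _ _
    · have := subsingleton_of_empty h (q + 2) u hne V
      exact Subsingleton.elim _ _
  · intro I hI hs c hc hcI huniq q W htW ξ
    obtain ⟨N, hN, hcN, e⟩ := h.locvan (q + 1) (bx u I ⊤ W) (c, t) ⟨hcI, trivial, htW⟩ ξ
    obtain ⟨V'', k, ht'', e'⟩ := Chain.Tame.kill hT hD hu hI hs huniq (q + 2) htW ξ hN hcN e
    exact ⟨V'', k, ht'', e'⟩
  · intro I I₁ I₂ k₁ k₂ k iv hs hno h1 h2
    exact van_mv hT hD hu k₁ k₂ k iv hs hno h1 h2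

end Groth.Agent.An.H889.Chain2
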