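import Groth.Agent.An.H889.Chain2
import Mathlib.Data.Finite.Prod

/-!
# Cohomology of strips, III: local constancy in degrees `0`, `1`
-/

set_option autoImplicit false
universe w u

open TopologicalSpace

namespace Groth.Agent.An.H889.Chain3

open OCoh Strip Chain Chain2

variable {T : Type u} [TopologicalSpace T] {h : OC.{w} (ℂ × T)} {𝓥 : Set (Opens T)}
  {D : Set (ℂ × T)}

theorem lcat_of_subsingleton {P : PAb.{w} T} (hP : ∀ V, Subsingleton (P.F V)) (Z : Set T) (z : T) :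
    P.LCat Z z := by
  refine ⟨⊤, trivial, ⊥, inferInstance, fun t _ _ => ⟨?_, ?_⟩⟩
  · intro s _ V' k _ _
    exact (hP ⊤).elim _ _
  · intro V' ht' g
    exact ⟨0, zero_mem _, V', le_top, le_rfl, ht', (hP V').elim _ _⟩

/-- Local constancy for strips which are unramified near `z`. -/
theorem lcat_unr (hT : Tame h 𝓥 D) {u : ℂ} (hu : u ≠ 0) {I : Opens ℝ}
    (hI : (I : Set ℝ).OrdConnected) {z : T} {V₀ : Opens T} (hz : z ∈ V₀)
    (hunr : ∀ V' : Opens T, V' ≤ V₀ → Unr D (bx u I ⊤ V')) (Z : Set T) (q : ℕ) :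
    (pab h u I q).LCat Z z := by
  by_cases hne : ∃ x, x ∈ I
  · obtain ⟨V, hV, hzV, hle⟩ := hT.basis z V₀ hz
    have iI : IsIv I := ⟨hI, hne⟩
    have hfin : Finite (h.H q (bx u I ⊤ V)) := by
      rcases q with _ | q
      · exact hT.fin u hu I ⊤ V iI isIv_top hV (hunr V hle)
      · have := hT.van u hu I ⊤ V iI isIv_top hV (hunr V hle) q
        infer_instance
    refine ⟨V, hzV, (⊤ : AddSubgroup (h.H q (bx u I ⊤ V))), ?_, fun t ht _ => ⟨?_, ?_⟩⟩
    · exact Subtype.finite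
    · intro s _ V' k ht' hs
      obtain ⟨V'', hV'', htV'', hle''⟩ := hT.basis t V' ht'
      obtain ⟨k2, hk2⟩ := hT.eqv u hu I ⊤ I ⊤ V V'' iI isIv_top iI isIv_top le_rfl le_rfl hV hV''
        (hle''.trans k) (hunr V hle)
      apply (hk2 q).1
      rw [map_zero]
      have := congrArg ((pab h u I q).res hle'') hs
      rw [(pab h u I q).res_res, map_zero] at this
      exact this
    · intro V' ht' g
      obtain ⟨V'', hV'', htV'', hle''⟩ := hT.basis t (V' ⊓ V) ⟨ht', ht⟩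
      obtain ⟨k2, hk2⟩ := hT.eqv u hu I ⊤ I ⊤ V V'' iI isIv_top iI isIv_top le_rfl le_rfl hV hV''
        (hle''.trans inf_le_right) (hunr V hle)
      obtain ⟨s, hs⟩ := (hk2 q).2 ((pab h u I q).res (hle''.trans inf_le_left) g)
      exact ⟨s, trivial, V'', hle''.trans inf_le_right, hle''.trans inf_le_left, htV'', hs⟩
  · exact lcat_of_subsingleton (subsingleton_of_empty h q u hne) Z z

/-- The presheaf `H^q` on the opens of `ℂ × T`. -/
abbrev hpab (h : OC.{w} (ℂ × T)) (q : ℕ) : PAb.{w} (ℂ × T) where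
  F V := h.H q V
  res k := h.res q k
  res_self _ _ := h.res_self _ _ _
  res_res _ _ _ := h.res_res _ _ _ _

/-- The hypotheses of local constancy along `Z`, at `z`. -/
structure Along (h : OC.{w} (ℂ × T)) (D : Set (ℂ × T)) (Z : Set T) (z : T) : Prop where
  lc : ∀ c, (c, z) ∈ D → (hpab h 0).LCat {p | p ∈ D ∧ p.2 ∈ Z} (c, z)
  ex : ∀ c, (c, z) ∈ D → ∀ N : Opens (ℂ × T), (c, z) ∈ N →
    ∃ V : Opens T, z ∈ V ∧ ∀ t ∈ V, t ∈ Z → ∃ c', (c', t) ∈ D ∧ (c', t) ∈ N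
  uniq : ∀ c, (c, z) ∈ D → ∃ N : Opens (ℂ × T), (c, z) ∈ N ∧ ∀ c' c'' t, t ∈ Z → (c', t) ∈ D →
    (c'', t) ∈ D → (c', t) ∈ N → (c'', t) ∈ N → c' = c''

/-- Local constancy for strips with one ramification point over `z`. -/
theorem lcat_one (hT : Tame h 𝓥 D) (hD : Ram D) {Z : Set T} {z : T} (hA : Along h D Z z)
    {u : ℂ} (hu : u ≠ 0) {I : Opens ℝ} (hI : (I : Set ℝ).OrdConnected) (hs : Sep D u I z) {c : ℂ}
    (hc : (c, z) ∈ D) (hcI : (u * c).re ∈ I)
    (h1 : ∀ c', (c', z) ∈ D → (u * c').re ∈ I → c' = c) :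
    (pab h u I 0).LCat Z z ∧ (pab h u I 1).LCat Z z := by
  obtain ⟨N₁, hcN₁, S₁, hfin₁, hgen₁⟩ := hA.lc c hc
  obtain ⟨N₂, hcN₂, huniq⟩ := hA.uniq c hc
  obtain ⟨η, hη, hs'⟩ := hs.exists_delta hD
  obtain ⟨ε, hε, V₁, hzV₁, hbox⟩ := exists_box_le hu (c := c) (t := z)
    (N := N₁ ⊓ N₂ ⊓ bx u I ⊤ ⊤) ⟨⟨hcN₁, hcN₂⟩, hcI, trivial, trivial⟩
  obtain ⟨V₂, hzV₂, hnear⟩ := hD.near u z (lt_min (half_pos hη) (half_pos hε))
  generalize hI0e : up ((u * c).re - ε) ⊓ dn ((u * c).re + ε) = I0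
  generalize hJ0e : up ((u * c).im - ε) ⊓ dn ((u * c).im + ε) = J0
  have hcI0 : (u * c).re ∈ I0 := by
    rw [← hI0e]
    exact ⟨show (u * c).re - ε < (u * c).re by linarith,
      show (u * c).re < (u * c).re + ε by linarith⟩
  have hcJ0 : (u * c).im ∈ J0 := by
    rw [← hJ0e]
    exact ⟨show (u * c).im - ε < (u * c).im by linarith,
      show (u * c).im < (u * c).im + ε by linarith⟩
  obtain ⟨V₃, hzV₃, hex⟩ := hA.ex c hc (bx u I0 J0 ⊤) ⟨hcI0, hcJ0, trivial⟩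
  obtain ⟨V, hV, hzV, hle⟩ := hT.basis z (V₁ ⊓ V₂ ⊓ V₃) ⟨⟨hzV₁, hzV₂⟩, hzV₃⟩
  have hI0 : I0 ≤ I := by
    rw [← hI0e]
    exact up_dn_le hu hε fun z' hz' => (hbox z' hz' z hzV₁).2
  -- the square box
  have hsqN : bx u I0 J0 V ≤ N₁ ⊓ N₂ ⊓ bx u I ⊤ ⊤ := by
    rw [← hI0e, ← hJ0e]
    exact sq_bx_le fun z' hz' t' ht' => hbox z' hz' t' (hle ht').1.1
  -- points of `D` over `V` in the strip
  have hDI : ∀ t ∈ V, ∀ c', (c', t) ∈ D → (u * c').re ∈ I → c' ∈ sq u c (ε / 2) := by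
    intro t ht c' hc' hc'I
    obtain ⟨c₀, hc₀, hsq⟩ := hnear t (hle ht).1.2 c' hc'
    by_cases hc₀I : (u * c₀).re ∈ I
    · obtain rfl := h1 c₀ hc₀ hc₀I
      exact ⟨hsq.1.trans_le (min_le_right _ _), hsq.2.trans_le (min_le_right _ _)⟩
    · have h2 := hs' c₀ hc₀ hc₀I _ hc'I
      have h3 := hsq.1.trans_le (min_le_left _ _)
      linarith
  have hSep : ∀ t ∈ V, Sep D u I t := by
    intro t ht c' hc' hc'I
    obtain ⟨c₀, hc₀, hsq⟩ := hnear t (hle ht).1.2 c' hc'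
    by_cases hc₀I : (u * c₀).re ∈ I
    · obtain rfl := h1 c₀ hc₀ hc₀I
      exfalso
      apply hc'I
      apply hI0
      have h3 := abs_lt.1 (hsq.1.trans_le (min_le_right _ _))
      rw [← hI0e]
      exact ⟨show (u * c₀).re - ε < (u * c').re by linarith [h3.1],
        show (u * c').re < (u * c₀).re + ε by linarith [h3.2]⟩
    · refine ⟨η / 2, half_pos hη, fun x hx => ?_⟩
      have h2 := hs' c₀ hc₀ hc₀I x hx
      have h3 := hsq.1.trans_le (min_le_left _ _)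
      have h4 : |x - (u * c₀).re| ≤ |x - (u * c').re| + |(u * c').re - (u * c₀).re| := by
        have := abs_add_le (x - (u * c').re) ((u * c').re - (u * c₀).re)
        simpa using this
      linarith
  -- the strip lemma
  have E : h.Eqv (bx u I ⊤ V) (bx u I0 J0 V) := by
    have := hT.strip hu (I := I) (J := ⊤) (x := (u * c).re) (y := (u * c).im) hI
      (by rw [Opens.coe_top]; exact Set.ordConnected_univ) (half_pos hε) (half_lt_self hε)
      (by rw [hI0e]; exact hI0) le_top hV (fun p hp hpD => by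
        have := hDI p.2 hp.2.2 p.1 hpD hp.1
        exact ⟨this.1.le, this.2.le⟩)
    rw [hI0e, hJ0e] at this
    exact this
  obtain ⟨kE, hE⟩ := E
  -- the point over `t`
  have hpt : ∀ t ∈ V, t ∈ Z → ∃ c', (c', t) ∈ D ∧ (c', t) ∈ bx u I0 J0 V ∧
      ∀ c'', (c'', t) ∈ D → (u * c'').re ∈ I → c'' = c' := by
    intro t ht htZ
    obtain ⟨c', hc', hc'N⟩ := hex t (hle ht).2 htZ
    have hc'V : (c', t) ∈ bx u I0 J0 V := ⟨hc'N.1, hc'N.2.1, ht⟩
    refine ⟨c', hc', hc'V, fun c'' hc'' hc''I => ?_⟩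
    have h2 := hDI t ht c'' hc'' hc''I
    have h3 : (c'', t) ∈ N₂ := (hbox c'' ⟨h2.1.trans (half_lt_self hε), h2.2.trans
      (half_lt_self hε)⟩ t (hle ht).1.1).1.2
    exact huniq c'' c' t htZ hc'' hc' h3 (hsqN hc'V).1.2
  constructor
  · -- degree 0
    have k1 : bx u I0 J0 V ≤ N₁ := fun p hp => (hsqN hp).1.1
    refine ⟨V, hzV, ((S₁.map (h.res 0 k1)).comap (h.res 0 kE)), ?_, fun t ht htZ => ?_⟩
    · have hf : ((S₁.map (h.res 0 k1) : AddSubgroup (h.H 0 (bx u I0 J0 V))) :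
          Set (h.H 0 (bx u I0 J0 V))).Finite := by
        rw [AddSubgroup.coe_map]
        exact (Set.toFinite (S₁ : Set (h.H 0 N₁))).image _
      exact (hf.preimage (hE 0).1.injOn).to_subtype
    · obtain ⟨c', hc', hc'V, hu'⟩ := hpt t ht htZ
      have hg := hgen₁ (c', t) (k1 hc'V) ⟨hc', htZ⟩
      refine ⟨?_, ?_⟩
      · rintro s ⟨σ, hσ, hσs⟩ V' k ht' h0
        have hc'V' : (c', t) ∈ bx u I0 J0 V' := ⟨hc'V.1, hc'V.2.1, ht'⟩
        have k3 : bx u I0 J0 V' ≤ bx u I0 J0 V := bx_mono le_rfl le_rfl k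
        have e1 : h.res 0 (k3.trans k1) σ = 0 := by
          rw [← h.res_res 0 k1 k3, hσs]
          have := congrArg (h.res 0 (bx_mono hI0 le_top le_rfl : bx u I0 J0 V' ≤ bx u I ⊤ V')) h0
          rw [map_zero] at this
          rw [h.res_res]
          rw [show (pab h u I 0).res k s = h.res 0 (bx_mono le_rfl le_rfl k) s from rfl,
            h.res_res] at this
          exact this
        have e2 : σ = 0 := hg.1 σ hσ (bx u I0 J0 V') (k3.trans k1) hc'V' e1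
        rw [e2, map_zero] at hσs
        exact (hE 0).1 (by rw [← hσs, map_zero])
      · intro V' ht' g
        have hc'V' : (c', t) ∈ bx u I0 J0 (V ⊓ V') := ⟨hc'V.1, hc'V.2.1, ht, ht'⟩
        have k4 : bx u I0 J0 (V ⊓ V') ≤ bx u I ⊤ V' := bx_mono hI0 le_top inf_le_right
        obtain ⟨σ, hσ, N', l, l', hN', e⟩ := hg.2 (bx u I0 J0 (V ⊓ V')) hc'V' (h.res 0 k4 g)
        obtain ⟨s, hs1⟩ := (hE 0).2 (h.res 0 k1 σ)
        have l2 : N' ≤ bx u I ⊤ (V ⊓ V') := l'.trans (bx_mono hI0 le_top le_rfl)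
        obtain ⟨V'', k5, ht'', e5⟩ := Chain.Tame.kill hT hD hu hI (hSep t ht) hu' 0
          (V' := V ⊓ V') ⟨ht, ht'⟩
          (h.res 0 (bx_mono le_rfl le_rfl inf_le_left : bx u I ⊤ (V ⊓ V') ≤ bx u I ⊤ V) s -
            h.res 0 (bx_mono le_rfl le_rfl inf_le_right : bx u I ⊤ (V ⊓ V') ≤ bx u I ⊤ V') g)
          l2 hN' (by
            rw [map_sub, h.res_res, h.res_res, sub_eq_zero]
            have e6 : h.res 0 (l'.trans (bx_mono le_rfl le_rfl inf_le_left) :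
                N' ≤ bx u I0 J0 V) (h.res 0 kE s) = h.res 0 l σ := by
              rw [hs1, h.res_res]
            rw [h.res_res] at e6
            rw [e6]
            refine Eq.trans e ?_
            change h.res 0 l' (h.res 0 k4 g) = _
            rw [h.res_res])
        rw [map_sub, h.res_res, h.res_res, sub_eq_zero] at e5
        refine ⟨s, ⟨σ, hσ, hs1.symm⟩, V'', k5.trans inf_le_left, k5.trans inf_le_right, ht'', ?_⟩
        exact e5
  · -- degree 1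
    refine ⟨V, hzV, ⊥, inferInstance, fun t ht htZ => ?_⟩
    obtain ⟨c', hc', hc'V, hu'⟩ := hpt t ht htZ
    refine ⟨?_, ?_⟩
    · intro s hs0 _ _ _ _
      exact hs0
    · intro V' ht' g
      obtain ⟨N, hN, hcN, e⟩ := h.locvan 0 (bx u I ⊤ V') (c', t) ⟨hI0 hc'V.1, trivial, ht'⟩ g
      obtain ⟨V'', k, ht'', e'⟩ := Chain.Tame.kill hT hD hu hI (hSep t ht) hu' 1 ht' g hN hcN e
      refine ⟨0, zero_mem _, V'' ⊓ V, inf_le_right, inf_le_left.trans k, ⟨ht'', ht⟩, ?_⟩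
      rw [map_zero]
      have := congrArg (h.res 1 (bx_mono le_rfl le_rfl inf_le_left :
        bx u I ⊤ (V'' ⊓ V) ≤ bx u I ⊤ V'')) e'
      rw [h.res_res, map_zero] at this
      exact this.symm

end Groth.Agent.An.H889.Chain3
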