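import Groth.Agent.An.H889.Chain3

/-!
# Cohomology of strips, IV: Mayer-Vietoris step and the main theorem on `ℂ × T → T`
-/

set_option autoImplicit false
universe w u

open TopologicalSpace

namespace Groth.Agent.An.H889.Chain4

open OCoh Strip Chain Chain2 Chain3

variable {T : Type u} [TopologicalSpace T] {h : OC.{w} (ℂ × T)} {𝓥 : Set (Opens T)}
  {D : Set (ℂ × T)}

set_option maxHeartbeats 1000000 in
/-- The Mayer-Vietoris step for local constancy. -/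
theorem lcat_mv (hT : Tame h 𝓥 D) {Z : Set T} {z : T}
    {u : ℂ} (hu : u ≠ 0) {I I₁ I₂ : Opens ℝ} (k₁ : I₁ ≤ I) (k₂ : I₂ ≤ I) (k : I ≤ I₁ ⊔ I₂)
    (iv : IsIv (I₁ ⊓ I₂)) {V₀ : Opens T} (hz : z ∈ V₀)
    (hunr : ∀ V' : Opens T, V' ≤ V₀ → Unr D (bx u (I₁ ⊓ I₂) ⊤ V'))
    (h10 : (pab h u I₁ 0).LCat Z z) (h11 : (pab h u I₁ 1).LCat Z z)
    (h20 : (pab h u I₂ 0).LCat Z z) (h21 : (pab h u I₂ 1).LCat Z z) :
    (pab h u I 0).LCat Z z ∧ (pab h u I 1).LCat Z z := by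
  obtain ⟨W₁, hz₁, l₁, A₁, fA₁, gA₁⟩ := h10.exists_le hz
  obtain ⟨W₂, hz₂, l₂, A₂, fA₂, gA₂⟩ := h20.exists_le hz
  obtain ⟨W₃, hz₃, l₃, B₁, fB₁, gB₁⟩ := h11.exists_le hz
  obtain ⟨W₄, hz₄, l₄, B₂, fB₂, gB₂⟩ := h21.exists_le hz
  obtain ⟨V, hV, hzV, hle⟩ := hT.basis z (W₁ ⊓ W₂ ⊓ W₃ ⊓ W₄) ⟨⟨⟨hz₁, hz₂⟩, hz₃⟩, hz₄⟩
  have m₁ : V ≤ W₁ := hle.trans (inf_le_left.trans (inf_le_left.trans inf_le_left))
  have m₂ : V ≤ W₂ := hle.trans (inf_le_left.trans (inf_le_left.trans inf_le_right))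
  have m₃ : V ≤ W₃ := hle.trans (inf_le_left.trans inf_le_right)
  have m₄ : V ≤ W₄ := hle.trans inf_le_right
  have mV : V ≤ V₀ := m₁.trans l₁
  obtain ⟨S₁, fS₁, gS₁⟩ := PAb.exists_gen_le hzV m₁ gA₁
  obtain ⟨S₂, fS₂, gS₂⟩ := PAb.exists_gen_le hzV m₂ gA₂
  obtain ⟨R₁, fR₁, gR₁⟩ := PAb.exists_gen_le hzV m₃ gB₁
  obtain ⟨R₂, fR₂, gR₂⟩ := PAb.exists_gen_le hzV m₄ gB₂
  clear gA₁ gA₂ gB₁ gB₂ fA₁ fA₂ fB₁ fB₂ h10 h11 h20 h21
  -- the geometry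
  have hU : ∀ V : Opens T, bx u I₁ ⊤ V ≤ bx u I ⊤ V := fun V => bx_mono k₁ le_rfl le_rfl
  have hV' : ∀ V : Opens T, bx u I₂ ⊤ V ≤ bx u I ⊤ V := fun V => bx_mono k₂ le_rfl le_rfl
  have hW : ∀ V : Opens T, bx u I ⊤ V ≤ bx u I₁ ⊤ V ⊔ bx u I₂ ⊤ V := by
    rintro V p ⟨a1, a2, a3⟩
    rcases k a1 with b | b
    · exact Or.inl ⟨b, a2, a3⟩
    · exact Or.inr ⟨b, a2, a3⟩
  have hP : ∀ V : Opens T, bx u I₁ ⊤ V ⊓ bx u I₂ ⊤ V ≤ bx u (I₁ ⊓ I₂) ⊤ V := fun V p hp =>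
    ⟨⟨hp.1.1, hp.2.1⟩, hp.1.2⟩
  have hP' : ∀ V : Opens T, bx u (I₁ ⊓ I₂) ⊤ V ≤ bx u I₁ ⊤ V ⊓ bx u I₂ ⊤ V := fun V p hp =>
    ⟨⟨hp.1.1, hp.2⟩, ⟨hp.1.2, hp.2⟩⟩
  -- the overlap
  have hEq : ∀ V' : Opens T, V' ∈ 𝓥 → V' ≤ V → h.Eqv (bx u (I₁ ⊓ I₂) ⊤ V)
      (bx u (I₁ ⊓ I₂) ⊤ V') := fun V' hV' l =>
    hT.eqv u hu _ _ _ _ V V' iv isIv_top iv isIv_top le_rfl le_rfl hV hV' l (hunr V mV)
  have hinj : ∀ (q : ℕ) (t : T) (V' : Opens T) (l : V' ≤ V), t ∈ V' →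
      ∀ x : h.H q (bx u (I₁ ⊓ I₂) ⊤ V), h.res q (bx_mono le_rfl le_rfl l) x = 0 → x = 0 := by
    intro q t V' l ht x hx
    obtain ⟨V'', hV'', htV'', hle''⟩ := hT.basis t V' ht
    obtain ⟨k5, hk5⟩ := hEq V'' hV'' (hle''.trans l)
    apply (hk5 q).1
    have := congrArg (h.res q (bx_mono le_rfl le_rfl hle'' :
      bx u (I₁ ⊓ I₂) ⊤ V'' ≤ bx u (I₁ ⊓ I₂) ⊤ V')) hx
    rw [h.res_res, map_zero] at this
    rw [map_zero]
    exact this
  -- restriction to the two halves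
  let r₁ : ∀ (q : ℕ) (V : Opens T), h.H q (bx u I ⊤ V) →+ h.H q (bx u I₁ ⊤ V) :=
    fun q V => h.res q (hU V)
  let r₂ : ∀ (q : ℕ) (V : Opens T), h.H q (bx u I ⊤ V) →+ h.H q (bx u I₂ ⊤ V) :=
    fun q V => h.res q (hV' V)
  have hr₁ : ∀ (q : ℕ) {V V' : Opens T} (l : V' ≤ V) (x : h.H q (bx u I ⊤ V)),
      r₁ q V' (h.res q (bx_mono le_rfl le_rfl l) x) = h.res q (bx_mono le_rfl le_rfl l) (r₁ q V x) :=
    fun q V V' l x => by
      change h.res q _ (h.res q _ x) = h.res q _ (h.res q _ x)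
      rw [h.res_res, h.res_res]
  have hr₂ : ∀ (q : ℕ) {V V' : Opens T} (l : V' ≤ V) (x : h.H q (bx u I ⊤ V)),
      r₂ q V' (h.res q (bx_mono le_rfl le_rfl l) x) = h.res q (bx_mono le_rfl le_rfl l) (r₂ q V x) :=
    fun q V V' l x => by
      change h.res q _ (h.res q _ x) = h.res q _ (h.res q _ x)
      rw [h.res_res, h.res_res]
  constructor
  · -- degree 0
    have hsep : ∀ (V : Opens T) (s : h.H 0 (bx u I ⊤ V)), r₁ 0 V s = 0 → r₂ 0 V s = 0 → s = 0 :=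
      fun V s h1 h2 => h.sep' (hU V) (hV' V) (hW V) s h1 h2
    refine ⟨V, hzV, S₁.comap (r₁ 0 V) ⊓ S₂.comap (r₂ 0 V), ?_, fun t ht htZ => ⟨?_, ?_⟩⟩
    · have hf : ((S₁ : Set (h.H 0 (bx u I₁ ⊤ V))) ×ˢ (S₂ : Set (h.H 0 (bx u I₂ ⊤ V)))).Finite :=
        (Set.toFinite _).prod (Set.toFinite _)
      refine (hf.preimage (f := fun s : h.H 0 (bx u I ⊤ V) => (r₁ 0 V s, r₂ 0 V s)) ?_).to_subtype
      intro a _ b _ hab
      rw [← sub_eq_zero]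
      apply hsep
      · rw [map_sub, sub_eq_zero]; exact congrArg Prod.fst hab
      · rw [map_sub, sub_eq_zero]; exact congrArg Prod.snd hab
    · rintro s ⟨hs1, hs2⟩ V' l ht' h0
      apply hsep
      · apply (gS₁ t ht htZ).1 _ hs1 V' l ht'
        change h.res 0 _ (r₁ 0 V s) = 0
        rw [← hr₁ 0 l s]
        have := congrArg (r₁ 0 V') h0
        rw [map_zero] at this
        exact this
      · apply (gS₂ t ht htZ).1 _ hs2 V' l ht'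
        change h.res 0 _ (r₂ 0 V s) = 0
        rw [← hr₂ 0 l s]
        have := congrArg (r₂ 0 V') h0
        rw [map_zero] at this
        exact this
    · intro V' ht' g
      obtain ⟨σ₁, hσ₁, X₁, a₁, b₁, tX₁, e₁⟩ := (gS₁ t ht htZ).2 V' ht' (r₁ 0 V' g)
      obtain ⟨σ₂, hσ₂, X₂, a₂, b₂, tX₂, e₂⟩ := (gS₂ t ht htZ).2 V' ht' (r₂ 0 V' g)
      change h.res 0 _ σ₁ = h.res 0 _ (r₁ 0 V' g) at e₁
      change h.res 0 _ σ₂ = h.res 0 _ (r₂ 0 V' g) at e₂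
      have htX : t ∈ X₁ ⊓ X₂ := ⟨tX₁, tX₂⟩
      have c₁ : X₁ ⊓ X₂ ≤ X₁ := inf_le_left
      have c₂ : X₁ ⊓ X₂ ≤ X₂ := inf_le_right
      -- equality on the overlap
      have ov : h.res 0 ((hP' V).trans inf_le_left) σ₁ = h.res 0 ((hP' V).trans inf_le_right) σ₂ := by
        rw [← sub_eq_zero]
        apply hinj 0 t (X₁ ⊓ X₂) (c₁.trans a₁) htX
        rw [map_sub, h.res_res, h.res_res, sub_eq_zero]
        have f₁ := congrArg (h.res 0 ((bx_mono inf_le_left le_rfl c₁ :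
          bx u (I₁ ⊓ I₂) ⊤ (X₁ ⊓ X₂) ≤ bx u I₁ ⊤ X₁))) e₁
        have f₂ := congrArg (h.res 0 ((bx_mono inf_le_right le_rfl c₂ :
          bx u (I₁ ⊓ I₂) ⊤ (X₁ ⊓ X₂) ≤ bx u I₂ ⊤ X₂))) e₂
        change h.res 0 _ (h.res 0 _ σ₁) = h.res 0 _ (h.res 0 _ (h.res 0 _ g)) at f₁
        change h.res 0 _ (h.res 0 _ σ₂) = h.res 0 _ (h.res 0 _ (h.res 0 _ g)) at f₂
        rw [h.res_res, h.res_res, h.res_res] at f₁
        rw [h.res_res, h.res_res, h.res_res] at f₂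
        exact f₁.trans f₂.symm
      obtain ⟨s, hs1, hs2⟩ := h.glue' 0 (hU V) (hV' V) (hW V) σ₁ σ₂ (by
        have := congrArg (h.res 0 (hP V)) ov
        rw [h.res_res, h.res_res] at this
        exact this)
      refine ⟨s, ⟨?_, ?_⟩, X₁ ⊓ X₂, c₁.trans a₁, c₁.trans b₁, htX, ?_⟩
      · change h.res 0 _ s ∈ S₁
        rw [hs1]; exact hσ₁
      · change h.res 0 _ s ∈ S₂
        rw [hs2]; exact hσ₂
      · change h.res 0 _ s = h.res 0 _ g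
        rw [← sub_eq_zero]
        apply hsep
        · rw [map_sub, sub_eq_zero, hr₁ 0 (c₁.trans a₁), hr₁ 0 (c₁.trans b₁)]
          have f₁ := congrArg (h.res 0 ((bx_mono le_rfl le_rfl c₁ :
            bx u I₁ ⊤ (X₁ ⊓ X₂) ≤ bx u I₁ ⊤ X₁))) e₁
          rw [h.res_res, h.res_res] at f₁
          change h.res 0 _ (h.res 0 _ s) = _
          rw [hs1]
          exact f₁
        · rw [map_sub, sub_eq_zero, hr₂ 0 (c₁.trans a₁), hr₂ 0 (c₁.trans b₁)]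
          have f₂ := congrArg (h.res 0 ((bx_mono le_rfl le_rfl c₂ :
            bx u I₂ ⊤ (X₁ ⊓ X₂) ≤ bx u I₂ ⊤ X₂))) e₂
          rw [h.res_res, h.res_res] at f₂
          change h.res 0 _ (h.res 0 _ s) = _
          rw [hs2]
          exact f₂
  · -- degree 1
    have hfin0 : Finite (h.H 0 (bx u (I₁ ⊓ I₂) ⊤ V)) :=
      hT.fin u hu _ ⊤ V iv isIv_top hV (hunr V mV)
    have hvan1 : Subsingleton (h.H 1 (bx u (I₁ ⊓ I₂) ⊤ V)) :=
      hT.van u hu _ ⊤ V iv isIv_top hV (hunr V mV) 0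
    -- classes killed by both restrictions come from the overlap
    have hker : ∀ (X : Opens T) (ξ : h.H 1 (bx u I ⊤ X)), r₁ 1 X ξ = 0 → r₂ 1 X ξ = 0 →
        ∃ x : h.H 0 (bx u (I₁ ⊓ I₂) ⊤ X), h.d' 0 (hW X) (hP X) x = ξ := fun X ξ h1 h2 =>
      h.ex_d' 0 (hU X) (hV' X) (hW X) (hP X) (hP' X) ξ h1 h2
    refine ⟨V, hzV, R₁.comap (r₁ 1 V) ⊓ R₂.comap (r₂ 1 V), ?_, fun t ht htZ => ⟨?_, ?_⟩⟩
    · have hf : ((R₁ : Set (h.H 1 (bx u I₁ ⊤ V))) ×ˢ (R₂ : Set (h.H 1 (bx u I₂ ⊤ V)))).Finite :=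
        (Set.toFinite _).prod (Set.toFinite _)
      refine (hf.preimage' (f := fun s : h.H 1 (bx u I ⊤ V) => (r₁ 1 V s, r₂ 1 V s)) ?_).to_subtype
      rintro b -
      by_cases hb : ∃ ξ₀ : h.H 1 (bx u I ⊤ V), (r₁ 1 V ξ₀, r₂ 1 V ξ₀) = b
      · obtain ⟨ξ₀, rfl⟩ := hb
        refine (Set.finite_range fun x : h.H 0 (bx u (I₁ ⊓ I₂) ⊤ V) =>
          h.d' 0 (hW V) (hP V) x + ξ₀).subset ?_
        intro ξ hξ
        obtain ⟨x, hx⟩ := hker V (ξ - ξ₀)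
          (by rw [map_sub, sub_eq_zero]; exact congrArg Prod.fst hξ)
          (by rw [map_sub, sub_eq_zero]; exact congrArg Prod.snd hξ)
        exact ⟨x, by simp only [hx, sub_add_cancel]⟩
      · convert Set.finite_empty
        ext ξ
        simp only [Set.mem_preimage, Set.mem_singleton_iff, Set.mem_empty_iff_false, iff_false]
        exact fun hξ => hb ⟨ξ, hξ⟩
    · rintro ξ ⟨hs1, hs2⟩ V' l ht' h0
      change r₁ 1 V ξ ∈ R₁ at hs1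
      change r₂ 1 V ξ ∈ R₂ at hs2
      have e1 : r₁ 1 V ξ = 0 := by
        apply (gR₁ t ht htZ).1 _ hs1 V' l ht'
        change h.res 1 _ (r₁ 1 V ξ) = 0
        rw [← hr₁ 1 l ξ]
        have := congrArg (r₁ 1 V') h0
        rw [map_zero] at this
        exact this
      have e2 : r₂ 1 V ξ = 0 := by
        apply (gR₂ t ht htZ).1 _ hs2 V' l ht'
        change h.res 1 _ (r₂ 1 V ξ) = 0
        rw [← hr₂ 1 l ξ]
        have := congrArg (r₂ 1 V') h0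
        rw [map_zero] at this
        exact this
      obtain ⟨x, rfl⟩ := hker V ξ e1 e2
      -- restrict to `V'`
      change h.res 1 _ (h.d' 0 (hW V) (hP V) x) = 0 at h0
      rw [h.d'_nat 0 (hW V) (hP V) (hW V') (hP V') (bx_mono le_rfl le_rfl l)
        (bx_mono le_rfl le_rfl l) (bx_mono le_rfl le_rfl l) (bx_mono le_rfl le_rfl l) x,
        h.d'_eq_zero_iff 0 (hU V') (hV' V') (hW V') (hP V') (hP' V')] at h0
      obtain ⟨a, b, hab⟩ := h0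
      obtain ⟨σ₁, hσ₁, X₁, a₁, b₁, tX₁, f₁⟩ := (gS₁ t ht htZ).2 V' ht' a
      obtain ⟨σ₂, hσ₂, X₂, a₂, b₂, tX₂, f₂⟩ := (gS₂ t ht htZ).2 V' ht' b
      change h.res 0 _ σ₁ = h.res 0 _ a at f₁
      change h.res 0 _ σ₂ = h.res 0 _ b at f₂
      have htX : t ∈ X₁ ⊓ X₂ := ⟨tX₁, tX₂⟩
      have c₁ : X₁ ⊓ X₂ ≤ X₁ := inf_le_left
      have c₂ : X₁ ⊓ X₂ ≤ X₂ := inf_le_right
      rw [h.d'_eq_zero_iff 0 (hU V) (hV' V) (hW V) (hP V) (hP' V)]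
      refine ⟨σ₁, σ₂, ?_⟩
      rw [← sub_eq_zero]
      apply hinj 0 t (X₁ ⊓ X₂) (c₁.trans a₁) htX
      rw [map_sub, map_sub, h.res_res, h.res_res, sub_eq_zero]
      have g₁ := congrArg (h.res 0 ((bx_mono inf_le_left le_rfl c₁ :
        bx u (I₁ ⊓ I₂) ⊤ (X₁ ⊓ X₂) ≤ bx u I₁ ⊤ X₁))) f₁
      have g₂ := congrArg (h.res 0 ((bx_mono inf_le_right le_rfl c₂ :
        bx u (I₁ ⊓ I₂) ⊤ (X₁ ⊓ X₂) ≤ bx u I₂ ⊤ X₂))) f₂
      have g₃ := congrArg (h.res 0 ((bx_mono le_rfl le_rfl (c₁.trans b₁) :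
        bx u (I₁ ⊓ I₂) ⊤ (X₁ ⊓ X₂) ≤ bx u (I₁ ⊓ I₂) ⊤ V'))) hab
      rw [h.res_res, h.res_res] at g₁ g₂
      rw [map_sub, h.res_res, h.res_res, h.res_res] at g₃
      rw [g₁, g₂]
      exact g₃
    · intro V' ht' g
      obtain ⟨σ₁, hσ₁, X₁, a₁, b₁, tX₁, f₁⟩ := (gR₁ t ht htZ).2 V' ht' (r₁ 1 V' g)
      obtain ⟨σ₂, hσ₂, X₂, a₂, b₂, tX₂, f₂⟩ := (gR₂ t ht htZ).2 V' ht' (r₂ 1 V' g)
      change h.res 1 _ σ₁ = h.res 1 _ (r₁ 1 V' g) at f₁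
      change h.res 1 _ σ₂ = h.res 1 _ (r₂ 1 V' g) at f₂
      obtain ⟨ξ₀, hs1, hs2⟩ := h.glue' 1 (hU V) (hV' V) (hW V) σ₁ σ₂ (by
        have e : h.res 1 ((hP' V).trans inf_le_left) σ₁ = h.res 1 ((hP' V).trans inf_le_right) σ₂ :=
          Subsingleton.elim _ _
        have := congrArg (h.res 1 (hP V)) e
        rw [h.res_res, h.res_res] at this
        exact this)
      obtain ⟨X, hX, htX, hleX⟩ := hT.basis t (X₁ ⊓ X₂) ⟨tX₁, tX₂⟩
      have c₁ : X ≤ X₁ := hleX.trans inf_le_left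
      have c₂ : X ≤ X₂ := hleX.trans inf_le_right
      obtain ⟨x', hx'⟩ := hker X (h.res 1 (bx_mono le_rfl le_rfl (c₁.trans b₁)) g -
          h.res 1 (bx_mono le_rfl le_rfl (c₁.trans a₁)) ξ₀) (by
        rw [map_sub, hr₁ 1 (c₁.trans a₁), hr₁ 1 (c₁.trans b₁), sub_eq_zero]
        have g₁ := congrArg (h.res 1 ((bx_mono le_rfl le_rfl c₁ :
            bx u I₁ ⊤ X ≤ bx u I₁ ⊤ X₁))) f₁
        rw [h.res_res, h.res_res] at g₁
        change _ = h.res 1 _ (h.res 1 _ ξ₀)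
        rw [hs1]
        exact g₁.symm) (by
        rw [map_sub, hr₂ 1 (c₁.trans a₁), hr₂ 1 (c₁.trans b₁), sub_eq_zero]
        have g₂ := congrArg (h.res 1 ((bx_mono le_rfl le_rfl c₂ :
            bx u I₂ ⊤ X ≤ bx u I₂ ⊤ X₂))) f₂
        rw [h.res_res, h.res_res] at g₂
        change _ = h.res 1 _ (h.res 1 _ ξ₀)
        rw [hs2]
        exact g₂.symm)
      obtain ⟨k5, hk5⟩ := hEq X hX (c₁.trans a₁)
      obtain ⟨x, hx⟩ := (hk5 0).2 x'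
      refine ⟨ξ₀ + h.d' 0 (hW V) (hP V) x, ⟨?_, ?_⟩, X, c₁.trans a₁, c₁.trans b₁, htX, ?_⟩
      · change h.res 1 (hU V) (ξ₀ + h.d' 0 (hW V) (hP V) x) ∈ R₁
        rw [map_add, hs1, h.res_d'_left, add_zero]
        exact hσ₁
      · change h.res 1 (hV' V) (ξ₀ + h.d' 0 (hW V) (hP V) x) ∈ R₂
        rw [map_add, hs2, h.res_d'_right, add_zero]
        exact hσ₂
      · change h.res 1 _ (ξ₀ + h.d' 0 (hW V) (hP V) x) = h.res 1 _ g
        rw [map_add, h.d'_nat 0 (hW V) (hP V) (hW X) (hP X) (bx_mono le_rfl le_rfl (c₁.trans a₁))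
          (bx_mono le_rfl le_rfl (c₁.trans a₁)) (bx_mono le_rfl le_rfl (c₁.trans a₁))
          (bx_mono le_rfl le_rfl (c₁.trans a₁)) x, hx, hx', add_sub_cancel]

/-- (B): local constancy along `Z`, on strips. -/
theorem lcat (hT : Tame h 𝓥 D) (hD : Ram D) {Z : Set T} {z : T} (hA : Along h D Z z)
    {u : ℂ} (hu : u ≠ 0)
    (hinj : ∀ c c', (c, z) ∈ D → (c', z) ∈ D → (u * c).re = (u * c').re → c = c') :
    ∀ I : Opens ℝ, (I : Set ℝ).OrdConnected → Sep D u I z →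
      (pab h u I 0).LCat Z z ∧ (pab h u I 1).LCat Z z := by
  apply strip_induction hD hinj
  · intro I hI hs h0
    obtain ⟨V₁, hV₁, hunr⟩ := hs.unr hD h0
    exact ⟨lcat_unr hT hu hI hV₁ hunr Z 0, lcat_unr hT hu hI hV₁ hunr Z 1⟩
  · intro I hI hs c hc hcI huniq
    exact lcat_one hT hD hA hu hI hs hc hcI huniq
  · intro I I₁ I₂ k₁ k₂ k iv hs hno h1 h2
    obtain ⟨V₁, hV₁, hunr⟩ := hs.unr hD hno
    exact lcat_mv hT hu k₁ k₂ k iv hV₁ hunr h1.1 h1.2 h2.1 h2.2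

/-- A direction in which the points of a finite set have distinct projections. -/
theorem exists_dir {S : Set ℂ} (hS : S.Finite) :
    ∃ u : ℂ, u ≠ 0 ∧ ∀ c c', c ∈ S → c' ∈ S → (u * c).re = (u * c').re → c = c' := by
  classical
  -- the bad slopes
  have hbad : ((fun p : ℂ × ℂ => (p.1 - p.2).re / (p.1 - p.2).im) '' (S ×ˢ S)).Finite :=
    (hS.prod hS).image _
  obtain ⟨s, hs⟩ := hbad.infinite_compl.nonempty
  refine ⟨⟨1, s⟩, fun h0 => one_ne_zero (congrArg Complex.re h0), fun c c' hc hc' e => ?_⟩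
  have e' : (c - c').re - s * (c - c').im = 0 := by
    simp only [Complex.mul_re, one_mul] at e
    simp only [Complex.sub_re, Complex.sub_im]
    linarith
  by_cases him : (c - c').im = 0
  · rw [him, mul_zero, sub_zero] at e'
    exact sub_eq_zero.1 (Complex.ext e' him)
  · exfalso
    apply hs
    refine ⟨(c, c'), ⟨hc, hc'⟩, ?_⟩
    change (c - c').re / (c - c').im = s
    field_simp
    linarith

/-- The whole cylinder over an open set of the base. -/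
def cyl (V : Opens T) : Opens (ℂ × T) := ⟨{p | p.2 ∈ V}, V.2.preimage continuous_snd⟩

theorem cyl_mono {V V' : Opens T} (hV : V' ≤ V) : cyl V' ≤ cyl V := fun _ hp => hV hp

theorem sep_top (D : Set (ℂ × T)) (u : ℂ) (t : T) : Sep D u ⊤ t := fun _ _ h => (h trivial).elim

theorem bx_top_le (u : ℂ) (V : Opens T) : bx u ⊤ ⊤ V ≤ cyl V := fun _ hp => hp.2.2

theorem le_bx_top (u : ℂ) (V : Opens T) : cyl V ≤ bx u ⊤ ⊤ V := fun _ hp => ⟨trivial, trivial, hp⟩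

/-- `V ↦ H^q(ℂ × V)`. -/
abbrev cpab (h : OC.{w} (ℂ × T)) (q : ℕ) : PAb.{w} T where
  F V := h.H q (cyl V)
  res k := h.res q (cyl_mono k)
  res_self _ _ := h.res_self _ _ _
  res_res _ _ _ := h.res_res _ _ _ _

/-- (A), final form: classes of degree `≥ 2` on `ℂ × W` vanish locally on `W`. -/
theorem vanish_cyl (hT : Tame h 𝓥 D) (hD : Ram D) (q : ℕ) {t : T} {W : Opens T} (ht : t ∈ W)
    (ξ : h.H (q + 2) (cyl W)) :
    ∃ (V : Opens T) (l : V ≤ W), t ∈ V ∧ h.res (q + 2) (cyl_mono l) ξ = 0 := by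
  obtain ⟨u, hu, hinj⟩ := exists_dir (hD.fin t)
  obtain ⟨V, l, htV, e⟩ := vanish hT hD hu hinj ⊤ (by rw [Opens.coe_top]; exact Set.ordConnected_univ)
    (sep_top D u t) q W ht (h.res (q + 2) (bx_top_le u W) ξ)
  refine ⟨V, l, htV, ?_⟩
  have := congrArg (h.res (q + 2) (le_bx_top u V)) e
  rw [h.res_res, h.res_res, map_zero] at this
  exact this

/-- (B), final form. -/
theorem lcat_cyl (hT : Tame h 𝓥 D) (hD : Ram D) {Z : Set T} {z : T} (hA : Along h D Z z) :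
    (cpab h 0).LCat Z z ∧ (cpab h 1).LCat Z z := by
  obtain ⟨u, hu, hinj⟩ := exists_dir (hD.fin z)
  obtain ⟨h0, h1⟩ := lcat hT hD hA hu hinj ⊤ (by rw [Opens.coe_top]; exact Set.ordConnected_univ)
    (sep_top D u z)
  have key : ∀ q, (pab h u ⊤ q).LCat Z z → (cpab h q).LCat Z z := by
    rintro q ⟨V, hzV, S, hfin, hg⟩
    refine ⟨V, hzV, S.map (h.res q (le_bx_top u V)), ?_, fun t ht htZ => ⟨?_, ?_⟩⟩
    · have hf : ((S.map (h.res q (le_bx_top u V)) : AddSubgroup (h.H q (cyl V))) :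
          Set (h.H q (cyl V))).Finite := by
        rw [AddSubgroup.coe_map]
        exact (Set.toFinite (S : Set (h.H q (bx u ⊤ ⊤ V)))).image _
      exact hf.to_subtype
    · rintro _ ⟨s, hs, rfl⟩ V' k ht' e
      have : s = 0 := by
        apply (hg t ht htZ).1 s hs V' k ht'
        have := congrArg (h.res q (bx_top_le u V')) e
        rw [h.res_res, h.res_res, map_zero] at this
        exact this
      rw [this, map_zero]
    · intro V' ht' g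
      obtain ⟨s, hs, V'', k, k', ht'', e⟩ := (hg t ht htZ).2 V' ht' (h.res q (bx_top_le u V') g)
      refine ⟨_, ⟨s, hs, rfl⟩, V'', k, k', ht'', ?_⟩
      have := congrArg (h.res q (le_bx_top u V'')) e
      change h.res q _ (h.res q _ s) = h.res q _ (h.res q _ (h.res q _ g)) at this
      rw [h.res_res, h.res_res, h.res_res] at this
      change h.res q _ (h.res q _ s) = h.res q _ g
      rw [h.res_res]
      exact this
  exact ⟨key 0 h0, key 1 h1⟩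

end Groth.Agent.An.H889.Chain4
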