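import Groth.Agent.An.H889.TameBox
import Groth.Agent.An.H889.Chain4
import Mathlib.Topology.Covering.Basic

/-!
# Constant coefficients on a space finite over a base

`IsConst Z F M`: the coefficients `F` of a cosheaf `Z` are constant with value `M`.
For `π : E → B` closed with finite fibres:
* `lcatF_of_isEvenlyCovered` : the direct image is locally constant where `π` is a finite covering;
* `lcat_push` : the direct image is locally constant along a subset over which `π` is a local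
  homeomorphism.
-/

set_option autoImplicit false
universe w v u

open CategoryTheory Category Limits Abelian TopologicalSpace Topology

noncomputable section

namespace Groth.Agent.An.H889.ConstF

open Groth.Agent.An.H537 Gen Cosheaf OCoh OCInst Strip Box TameBox

variable {Y : Type} [TopologicalSpace Y] {A : Type u} [Category.{v} A] [Abelian A]

/-- `F` is constant with value `M`. -/
structure IsConst (Z : Opens Y ⥤ A) (F : A) (M : Type) [AddCommGroup M] where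
  c : ∀ W : Opens Y, M →+ (Z.obj W ⟶ F)
  nat : ∀ {U V : Opens Y} (h : V ≤ U) (m : M), ι Z h ≫ c U m = c V m
  inj : ∀ (W : Opens Y) (y : Y), y ∈ W → ∀ m, c W m = 0 → m = 0
  surj : ∀ (W : Opens Y) (y : Y), y ∈ W → ∀ s : Z.obj W ⟶ F,
    ∃ (V : Opens Y) (h : V ≤ W), y ∈ V ∧ ∃ m, ι Z h ≫ s = c V m

variable {Z : Opens Y ⥤ A} {F : A} {M : Type} [AddCommGroup M] (C : IsConst Z F M)

theorem IsConst.inj' {W : Opens Y} {y : Y} (hy : y ∈ W) {m m' : M} (h : C.c W m = C.c W m') :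
    m = m' := by
  refine sub_eq_zero.1 (C.inj W y hy _ ?_)
  rw [map_sub, h, sub_self]

variable (hZ : IsCosheaf Z)
include hZ


/-- Sections over connected opens are constant. -/
theorem IsConst.exists_of_connected {W : Opens Y} (hW : _root_.IsConnected (W : Set Y))
    (s : Z.obj W ⟶ F) : ∃ m, s = C.c W m := by
  obtain ⟨y₀, hy₀⟩ := hW.nonempty
  obtain ⟨V₀, h₀, hyV₀, m₀, hm₀⟩ := C.surj W y₀ hy₀ s
  let J : Type := {V : Opens Y // ∃ h : V ≤ W, ι Z h ≫ s = C.c V m₀}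
  let J' : Type := {V : Opens Y // ∃ h : V ≤ W, ∃ m, m ≠ m₀ ∧ ι Z h ≫ s = C.c V m}
  let U : Set Y := ⋃ (V : J), (V.1 : Set Y)
  let U' : Set Y := ⋃ (V : J'), (V.1 : Set Y)
  have hU : IsOpen U := isOpen_iUnion fun V => V.1.2
  have hU' : IsOpen U' := isOpen_iUnion fun V => V.1.2
  have hd : Disjoint U U' := by
    rw [Set.disjoint_left]
    rintro y hy hy'
    obtain ⟨⟨V, h, e⟩, hyV⟩ := Set.mem_iUnion.1 hy
    obtain ⟨⟨V', h', m, hm, e'⟩, hyV'⟩ := Set.mem_iUnion.1 hy'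
    dsimp only at hyV hyV'
    apply hm
    have h1 : C.c (V ⊓ V') m = C.c (V ⊓ V') m₀ := by
      rw [← C.nat inf_le_right m, ← e', ← C.nat inf_le_left m₀, ← e, ← assoc, ← assoc, ι_comp,
        ι_comp]
    have hyy : y ∈ V ⊓ V' := And.intro hyV hyV'
    exact C.inj' (y := y) hyy h1
  have hcov : (W : Set Y) ⊆ U ∪ U' := by
    intro y hy
    obtain ⟨V, h, hyV, m, e⟩ := C.surj W y hy s
    by_cases hm : m = m₀
    · exact Or.inl (Set.mem_iUnion.2 ⟨⟨V, h, by rw [e, hm]⟩, hyV⟩)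
    · exact Or.inr (Set.mem_iUnion.2 ⟨⟨V, h, m, hm, e⟩, hyV⟩)
  have hsub : (W : Set Y) ⊆ U := hW.isPreconnected.subset_left_of_subset_union hU hU' hd hcov
    ⟨y₀, hy₀, Set.mem_iUnion.2 ⟨⟨V₀, h₀, hm₀⟩, hyV₀⟩⟩
  refine ⟨m₀, ?_⟩
  refine hZ.hom_ext (I := {V : Opens Y // ∃ h : V ≤ W, ι Z h ≫ s = C.c V m₀}) (fun V => V.1) W
    (fun V => V.2.1) ?_ _ _ ?_
  · intro y hy
    obtain ⟨V, hV⟩ := Set.mem_iUnion.1 (hsub hy)
    exact Opens.mem_iSup.2 ⟨V, hV⟩
  · rintro ⟨V, h, e⟩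
    dsimp only
    rw [e, C.nat]

include C

/-- Gluing constant sections on disjoint pieces. -/
theorem IsConst.exists_glue {I : Type} (P : I → Opens Y) (W : Opens Y) (hi : ∀ i, P i ≤ W)
    (hW : W ≤ iSup P) (hd : ∀ i j, i ≠ j → P i ⊓ P j ≤ ⊥) (m : I → M) :
    ∃ f : Z.obj W ⟶ F, ∀ i, ι Z (hi i) ≫ f = C.c (P i) (m i) := by
  refine hZ.glue P W hi hW (fun i => C.c (P i) (m i)) (fun i j => ?_)
  by_cases hij : i = j
  · subst hij
    rfl
  · apply IsZero.eq_of_src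
    rw [le_bot_iff.1 (hd i j hij)]
    exact isZero_bot hZ

theorem IsConst.bij_of_pieces [Finite M] {I : Type} [Finite I] {W W' : Opens Y} (h : W' ≤ W)
    (P P' : I → Opens Y) (hi : ∀ i, P i ≤ W) (hi' : ∀ i, P' i ≤ W') (hW : W ≤ iSup P)
    (hW' : W' ≤ iSup P') (hP : ∀ i, P' i ≤ P i) (hd : ∀ i j, i ≠ j → P i ⊓ P j ≤ ⊥)
    (hc : ∀ i, _root_.IsConnected (P i : Set Y)) (hc' : ∀ i, _root_.IsConnected (P' i : Set Y)) :
    Bij Z F h ∧ Finite (Z.obj W ⟶ F) := by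
  have key : ∀ f : Z.obj W ⟶ F, ∀ i, ∃ m, ι Z (hi i) ≫ f = C.c (P i) m := fun f i =>
    C.exists_of_connected hZ (hc i) _
  refine ⟨⟨?_, ?_⟩, ?_⟩
  · intro f g hfg
    dsimp only at hfg
    refine hZ.hom_ext P W hi hW f g (fun i => ?_)
    obtain ⟨m, hm⟩ := key f i
    obtain ⟨m', hm'⟩ := key g i
    have h1 := congrArg (fun z => ι Z (hi' i) ≫ z) hfg
    rw [← assoc, ← assoc, ι_comp, ← ι_comp (hi i) (hP i), assoc, assoc, hm, hm', C.nat, C.nat] at h1
    obtain ⟨y, hy⟩ := (hc' i).nonempty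
    rw [hm, hm', C.inj' (y := y) hy h1]
  · intro s
    have h1 : ∀ i, ∃ m, ι Z (hi' i) ≫ s = C.c (P' i) m := fun i =>
      C.exists_of_connected hZ (hc' i) _
    choose m hm using h1
    obtain ⟨f, hf⟩ := C.exists_glue hZ P W hi hW hd m
    refine ⟨f, ?_⟩
    dsimp only
    refine hZ.hom_ext P' W' hi' hW' _ _ (fun i => ?_)
    rw [hm i, ← assoc, ι_comp, ← ι_comp (hi i) (hP i), assoc, hf, C.nat]
  · choose m hm using key
    refine Finite.of_injective m ?_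
    intro f g hfg
    refine hZ.hom_ext P W hi hW f g (fun i => ?_)
    rw [hm f i, hm g i, hfg]

section Push

omit hZ C [AddCommGroup M] in
/-- The presheaf `H^q` on the opens. -/
abbrev opab {X : Type} [TopologicalSpace X] (h : OC.{w} X) (q : ℕ) : PAb.{w} X where
  F V := h.H q V
  res k := h.res q k
  res_self _ _ := h.res_self _ _ _
  res_res _ _ _ := h.res_res _ _ _ _

variable {B : Type} [TopologicalSpace B] (π : Y → B) (hπ : Continuous π)

/-- The direct image is locally constant where `π` is a finite covering. -/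
theorem lcatF_of_isEvenlyCovered [Finite M] {p : B} {I : Type} [TopologicalSpace I] [Finite I]
    (hev : IsEvenlyCovered π p I) : LCatF (pre π hπ ⋙ Z) F p := by
  obtain ⟨hI, U, hpU, hU, hfU, H, hH⟩ := hev
  refine ⟨⟨U, hU⟩, hpU, ?_⟩
  intro V V' hVV hVU hcV hcV'
  -- the pieces
  let P : Opens B → I → Opens Y := fun V i =>
    ⟨{y | ∃ h : y ∈ π ⁻¹' U, (H ⟨y, h⟩).2 = i ∧ π y ∈ V}, by
      have h1 : IsOpen {y : π ⁻¹' U | (H y).2 = i ∧ π y.1 ∈ V} := by
        refine IsOpen.inter ?_ (V.2.preimage (hπ.comp continuous_subtype_val))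
        exact (isOpen_discrete {i}).preimage (continuous_snd.comp H.continuous)
      have h2 := hfU.isOpenMap_subtype_val _ h1
      convert h2 using 1
      ext y
      constructor
      · rintro ⟨h, h3, h4⟩
        exact ⟨⟨y, h⟩, ⟨h3, h4⟩, rfl⟩
      · rintro ⟨⟨y', h⟩, ⟨h3, h4⟩, rfl⟩
        exact ⟨h, h3, h4⟩⟩
  have hPle : ∀ V i, P V i ≤ (pre π hπ).obj V := fun V i y hy => hy.2.2
  have hPcov : ∀ V : Opens B, (V : Set B) ⊆ U → (pre π hπ).obj V ≤ iSup (P V) := by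
    intro V hV y hy
    exact Opens.mem_iSup.2 ⟨(H ⟨y, hV hy⟩).2, hV hy, rfl, hy⟩
  have hPd : ∀ V i j, i ≠ j → P V i ⊓ P V j ≤ ⊥ := by
    rintro V i j hij y ⟨⟨h1, h2, _⟩, ⟨h1', h2', _⟩⟩
    exact hij (h2.symm.trans h2')
  have hPc : ∀ V : Opens B, (V : Set B) ⊆ U → _root_.IsConnected (V : Set B) → ∀ i,
      _root_.IsConnected (P V i : Set Y) := by
    intro V hV hc i
    have h1 : (P V i : Set Y) = (fun b : U => ((H.symm (b, i)).1 : Y)) '' (Subtype.val ⁻¹' (V : Set B)) := by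
      ext y
      constructor
      · rintro ⟨h, h3, h4⟩
        refine ⟨⟨π y, h⟩, h4, ?_⟩
        have h5 : ((⟨π y, h⟩ : U), i) = H ⟨y, h⟩ := by
          apply Prod.ext
          · exact Subtype.ext (hH ⟨y, h⟩).symm
          · exact h3.symm
        change ((H.symm (⟨π y, h⟩, i)).1 : Y) = y
        rw [h5, H.symm_apply_apply]
      · rintro ⟨b, hb, rfl⟩
        have h5 := hH (H.symm (b, i))
        rw [H.apply_symm_apply] at h5
        refine ⟨(H.symm (b, i)).2, ?_, ?_⟩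
        · change (H (H.symm (b, i))).2 = i
          rw [H.apply_symm_apply]
        · change π (H.symm (b, i)).1 ∈ V
          rw [← h5]
          exact hb
    rw [h1]
    have h2 : _root_.IsConnected (Subtype.val ⁻¹' (V : Set B) : Set U) := by
      have h3 : (Subtype.val '' (Subtype.val ⁻¹' (V : Set B) : Set U)) = (V : Set B) := by
        rw [Subtype.image_preimage_coe]
        exact Set.inter_eq_right.2 hV
      rw [← h3] at hc
      exact ⟨hc.nonempty.of_image, IsInducing.subtypeVal.isPreconnected_image.1 hc.isPreconnected⟩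
    refine h2.image _ (Continuous.continuousOn ?_)
    exact continuous_subtype_val.comp (H.symm.continuous.comp (continuous_id.prodMk continuous_const))
  exact C.bij_of_pieces hZ (show (pre π hπ).obj V' ≤ (pre π hπ).obj V from fun y hy => hVV hy)
    (P V) (P V') (hPle V) (hPle V') (hPcov V hVU) (hPcov V' (fun y hy => hVU (hVV hy)))
    (fun i y hy => ⟨hy.1, hy.2.1, hVV hy.2.2⟩) (hPd V) (hPc V hVU hcV)
    (hPc V' (fun y hy => hVU (hVV hy)) hcV')

omit hZ C [AddCommGroup M] in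
/-- Over `Z₁`, the map `π` is a bijection near `e`. -/
structure Sct {Y B : Type} [TopologicalSpace Y] [TopologicalSpace B] (π : Y → B) (Z₁ : Set B)
    (e : Y) : Prop where
  ex : ∀ N : Opens Y, e ∈ N → ∃ P : Opens B, π e ∈ P ∧ ∀ p' ∈ P, p' ∈ Z₁ → ∃ e' ∈ N, π e' = p'
  uniq : ∃ N : Opens Y, e ∈ N ∧ ∀ e' ∈ N, ∀ e'' ∈ N, π e' ∈ Z₁ → π e' = π e'' → e' = e''

variable [HasExt.{w} A] [EnoughInjectives A] [T2Space Y] (hcl : IsClosedMap π)
  (hfin : ∀ b, (π ⁻¹' {b}).Finite)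

/-- The direct image is locally constant along `Z₁`. -/
theorem lcat_push [Finite M] {Z₁ : Set B} {p : B} (hS : ∀ e, π e = p → Sct π Z₁ e) :
    (opab (ofCosheaf (comap hZ π hπ hcl hfin) F) 0).LCat Z₁ p := by
  have hfib : Finite (π ⁻¹' {p}) := (hfin p).to_subtype
  have h1 : ∀ e : (π ⁻¹' {p}), ∃ N : Opens Y, e.1 ∈ N ∧ ∀ e' ∈ N, ∀ e'' ∈ N, π e' ∈ Z₁ →
      π e' = π e'' → e' = e'' := fun e => (hS e.1 e.2).uniq
  choose N₀ hN₀ huniq₀ using h1
  obtain ⟨N, hyN, hNle, hdisj⟩ := exists_disjoint_opens (hfin p) N₀ hN₀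
  have h2 : ∀ e : (π ⁻¹' {p}), ∃ P : Opens B, p ∈ P ∧ ∀ p' ∈ P, p' ∈ Z₁ → ∃ e' ∈ N e, π e' = p' := by
    intro e
    obtain ⟨P, hP, h⟩ := (hS e.1 e.2).ex (N e) (hyN e)
    rw [show π e.1 = p from e.2] at hP
    exact ⟨P, hP, h⟩
  choose P₀ hpP₀ hP₀ using h2
  -- neighbourhoods of a fibre
  have nhd : ∀ (q : B) (W : Opens Y), (∀ e, π e = q → e ∈ W) →
      ∃ P : Opens B, q ∈ P ∧ (pre π hπ).obj P ≤ W := by
    intro q W hW
    refine ⟨⟨(π '' (W : Set Y)ᶜ)ᶜ, (hcl _ W.2.isClosed_compl).isOpen_compl⟩, ?_, ?_⟩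
    · rintro ⟨y, hy, e⟩
      exact hy (hW y e)
    · intro y hy
      by_contra hyN
      exact hy ⟨y, hyN, rfl⟩
  obtain ⟨P₁, hpP₁, hP₁⟩ := nhd p (⨆ e, N e) (fun e he => Opens.mem_iSup.2 ⟨⟨e, he⟩, hyN ⟨e, he⟩⟩)
  let Q : Opens B := ⟨(⋂ e, (P₀ e : Set B)) ∩ P₁, (isOpen_iInter_of_finite fun e => (P₀ e).2).inter
    P₁.2⟩
  have hpQ : p ∈ Q := ⟨Set.mem_iInter.2 hpP₀, hpP₁⟩
  let X : (π ⁻¹' {p}) → Opens Y := fun e => N e ⊓ (pre π hπ).obj Q
  have hXle : ∀ e, X e ≤ (pre π hπ).obj Q := fun e => inf_le_right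
  have hXcov : (pre π hπ).obj Q ≤ iSup X := by
    intro y hy
    obtain ⟨e, he⟩ := Opens.mem_iSup.1 (hP₁ (show π y ∈ P₁ from hy.2))
    exact Opens.mem_iSup.2 ⟨e, he, hy⟩
  have hXd : ∀ e e', e ≠ e' → X e ⊓ X e' ≤ ⊥ := fun e e' hne =>
    (inf_le_inf inf_le_left inf_le_left).trans (hdisj e e' hne).le_bot
  -- sections which are constant on the pieces
  choose sec hsec using fun m : (π ⁻¹' {p}) → M => C.exists_glue hZ X _ hXle hXcov hXd m
  let secH : ((π ⁻¹' {p}) → M) →+ (Z.obj ((pre π hπ).obj Q) ⟶ F) := AddMonoidHom.mk' sec (by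
    intro a b
    refine hZ.hom_ext X _ hXle hXcov _ _ (fun e => ?_)
    rw [hsec, Preadditive.comp_add, hsec, hsec]
    exact map_add _ _ _)
  let Sg : AddSubgroup (Ext (Z.obj ((pre π hπ).obj Q)) F 0) :=
    ((Ext.addEquiv₀ (X := Z.obj ((pre π hπ).obj Q)) (Y := F)).symm.toAddMonoidHom.comp secH).range
  refine ⟨Q, hpQ, Sg, ?_, ?_⟩
  · exact Set.finite_range _
  intro t ht htZ
  have hex : ∀ e, ∃ e' ∈ X e, π e' = t := by
    intro e
    obtain ⟨e', he', h⟩ := hP₀ e t (Set.mem_iInter.1 ht.1 e) htZ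
    exact ⟨e', ⟨he', by change π e' ∈ Q; rw [h]; exact ht⟩, h⟩
  choose a haX hat using hex
  refine ⟨?_, ?_⟩
  · rintro _ ⟨m, rfl⟩ V' k htV' e0
    have h3 : ι Z (show (pre π hπ).obj V' ≤ (pre π hπ).obj Q from fun y hy => k hy) ≫ sec m = 0 := by
      have : (Ext.mk₀ (ι Z (show (pre π hπ).obj V' ≤ (pre π hπ).obj Q from fun y hy => k hy) ≫
          sec m) : Ext (Z.obj ((pre π hπ).obj V')) F 0) = Ext.mk₀ 0 := by
        rw [Ext.mk₀_zero, ← Ext.mk₀_comp_mk₀]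
        exact e0
      exact (Ext.mk₀_bijective _ _).1 this
    have h4 : m = 0 := by
      funext e
      refine C.inj (X e ⊓ (pre π hπ).obj V') (a e) ⟨haX e, by change π (a e) ∈ V'; rw [hat]; exact htV'⟩ _ ?_
      rw [← C.nat inf_le_left, ← hsec m e, ← assoc, ι_comp]
      have := congrArg (fun z => ι Z (inf_le_right : X e ⊓ (pre π hπ).obj V' ≤ (pre π hπ).obj V') ≫ z) h3
      rw [← assoc, ι_comp, comp_zero] at this
      exact this
    rw [h4]
    exact map_zero _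
  · intro V' htV' g
    obtain ⟨f, rfl⟩ := (Ext.mk₀_bijective (Z.obj ((pre π hπ).obj V')) F).2 g
    have h3 : ∀ e, ∃ (W : Opens Y) (h : W ≤ (pre π hπ).obj V'), a e ∈ W ∧ ∃ m, ι Z h ≫ f = C.c W m :=
      fun e => C.surj _ (a e) (by change π (a e) ∈ V'; rw [hat]; exact htV') f
    choose W hWle haW m hm using h3
    obtain ⟨P₂, htP₂, hP₂⟩ := nhd t (⨆ e, W e ⊓ X e) (by
      intro y hy
      obtain ⟨e, he⟩ := Opens.mem_iSup.1 (hP₁ (show π y ∈ P₁ by rw [hy]; exact ht.2))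
      refine Opens.mem_iSup.2 ⟨e, ?_⟩
      have : y = a e := huniq₀ e y (hNle e he) (a e) (hNle e (haX e).1) (by rw [hy]; exact htZ)
        (by rw [hy, hat])
      rw [this]
      exact ⟨haW e, haX e⟩)
    let V'' : Opens B := P₂ ⊓ (V' ⊓ Q)
    refine ⟨Ext.mk₀ (sec m), ⟨m, rfl⟩, V'', inf_le_right.trans inf_le_right,
      inf_le_right.trans inf_le_left, ⟨htP₂, htV', ht⟩, ?_⟩
    have hA : (pre π hπ).obj V'' ≤ (pre π hπ).obj Q := fun y hy => hy.2.2
    have hB : (pre π hπ).obj V'' ≤ (pre π hπ).obj V' := fun y hy => hy.2.1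
    change (Ext.mk₀ (ι Z hA)).comp (Ext.mk₀ (sec m)) (zero_add 0) =
      (Ext.mk₀ (ι Z hB)).comp (Ext.mk₀ f) (zero_add 0)
    rw [Ext.mk₀_comp_mk₀, Ext.mk₀_comp_mk₀]
    congr 1
    refine hZ.hom_ext (fun e => (W e ⊓ X e) ⊓ (pre π hπ).obj V'') _ (fun e => inf_le_right) ?_ _ _ ?_
    · intro y hy
      obtain ⟨e, he⟩ := Opens.mem_iSup.1 (hP₂ (show π y ∈ P₂ from hy.1))
      exact Opens.mem_iSup.2 ⟨e, he, hy⟩
    · intro e
      rw [← assoc, ← assoc, ι_comp, ι_comp, ← ι_comp (hXle e) (inf_le_left.trans inf_le_right), assoc, hsec,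
        ← ι_comp (hWle e) (inf_le_left.trans inf_le_left), assoc, hm, C.nat, C.nat]

end Push

end Groth.Agent.An.H889.ConstF
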