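import Groth.Agent.An.H889.TDefs
import Groth.Agent.An.H889.AlongOf
import Groth.Agent.An.H882.LinePts
import Groth.Agent.An.H162.PtsSpecA
import Groth.Agent.An.H809.AcalPush

/-!
# The topological situation attached to a Noether normalization

`AffT d = A^1_{Aff d}`, `Φ d : Pts (AffT d) ≃ₜ ℂ × Pts (Aff d)`; `exists_onePt`: a finite morphism is a
covering over a dense open part of every irreducible closed subset; `isBox_basis`: `Pts (Aff d)` has a
basis of boxes.
-/

set_option autoImplicit false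

open CategoryTheory AlgebraicGeometry TopologicalSpace Topology Opposite Limits

noncomputable section

namespace Groth.Agent.An.H889.FibA

open TDefs TopMain AlongOf TameBox Groth.Agent.An.H809.PushLC Groth.Agent.An.H809.AcalPush

section OnePt

variable {S S' : Scheme.{0}} [S.Over An.SC] [S'.Over An.SC] [LocallyOfFiniteType (S ↘ An.SC)]

/-- A finite morphism is a covering over an open part of every irreducible closed subset. -/
theorem exists_onePt (ρ : S' ⟶ S) [ρ.IsOver An.SC] [IsFinite ρ] (Z : Set S) (hZ : IsClosed Z)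
    (hirr : IsIrreducible Z) : ∃ U : S.Opens, (Z ∩ U).Nonempty ∧
      ∀ z : An.Pts S, z.pt ∈ U → z.pt ∈ Z → OnePt (An.Pts.mapC ρ) (An.Pts.pt ⁻¹' Z) z := by
  obtain ⟨Y, W, i, j, g, hi, hj, hg, hY, hW, hsq, hri, hrj⟩ := exists_square ρ Z hZ hirr
  let _ : Y.Over An.SC := ⟨i ≫ (S ↘ An.SC)⟩
  let _ : W.Over An.SC := ⟨j ≫ (S' ↘ An.SC)⟩
  have io : i.IsOver An.SC := ⟨rfl⟩
  have jo : j.IsOver An.SC := ⟨rfl⟩
  have go : g.IsOver An.SC := ⟨by
    change g ≫ i ≫ (S ↘ An.SC) = j ≫ (S' ↘ An.SC)
    rw [reassoc_of% hsq, comp_over ρ An.SC]⟩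
  have hYft : LocallyOfFiniteType (Y ↘ An.SC) := by
    change LocallyOfFiniteType (i ≫ (S ↘ An.SC))
    infer_instance
  obtain ⟨Z0, -, hne, het⟩ := H526.T3.exists_open_etale (k := ℂ) (Y ↘ An.SC) g
  obtain ⟨U, hU, hUZ⟩ := i.isClosedEmbedding.isInducing.isOpen_iff.1 Z0.2
  refine ⟨⟨U, hU⟩, ?_, ?_⟩
  · obtain ⟨y, hy⟩ := hne
    refine ⟨i y, hri ▸ ⟨y, rfl⟩, ?_⟩
    change y ∈ i ⁻¹' U
    rw [hUZ]
    exact hy
  · intro z hzU hzZ
    have hie := H871.Imm.isClosedEmbedding_map i
    have hje := H871.Imm.isClosedEmbedding_map j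
    have hcomp : ∀ x, An.Pts.map ρ (An.Pts.map j x) = An.Pts.map i (An.Pts.map g x) := by
      intro x
      refine Subtype.ext ?_
      simp only [An.Pts.map_val, Category.assoc, hsq]
    have hlift : ∀ y : An.Pts S', (An.Pts.map ρ y).pt ∈ Z → ∃ w, An.Pts.map j w = y := by
      intro y hy
      have : y ∈ Set.range (An.Pts.map j) := by
        rw [H871.Imm.range_map_of_isClosedImmersion]
        change y.pt ∈ Set.range j
        rw [hrj]
        rw [An.Pts.pt_map] at hy
        exact hy
      exact this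
    have hlift' : ∀ t : An.Pts S, t.pt ∈ Z → ∃ t', An.Pts.map i t' = t := by
      intro t ht
      have : t ∈ Set.range (An.Pts.map i) := by
        rw [H871.Imm.range_map_of_isClosedImmersion]
        change t.pt ∈ Set.range i
        rw [hri]
        exact ht
      exact this
    intro y hy N hN hyN
    have hy' : An.Pts.map ρ y = z := hy
    obtain ⟨w, rfl⟩ := hlift y (by rw [hy']; exact hzZ)
    have hgw : (An.Pts.map g w).pt ∈ Z0 := by
      have : i (An.Pts.map g w).pt = z.pt := by
        rw [← An.Pts.pt_map, ← hcomp, hy']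
      change (An.Pts.map g w).pt ∈ Z0.carrier
      rw [← hUZ]
      change i _ ∈ U
      rw [this]
      exact hzU
    obtain ⟨O, hO, hON, hwO, hinj, himg⟩ := exists_nhd g Z0 (het Z0 le_rfl) w hgw
      (An.Pts.map j ⁻¹' N) (hN.preimage (An.Pts.continuous_map j)) hyN
    obtain ⟨N', hN', hN'O⟩ := hje.isInducing.isOpen_iff.1 hO
    obtain ⟨V, hV, hVO⟩ := hie.isInducing.isOpen_iff.1 himg
    refine ⟨N' ∩ N, hN'.inter hN, Set.inter_subset_right, ⟨?_, hyN⟩, V, hV, ?_, ?_⟩
    · change w ∈ An.Pts.map j ⁻¹' N'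
      rw [hN'O]
      exact hwO
    · rw [← hy', hcomp]
      change An.Pts.map g w ∈ An.Pts.map i ⁻¹' V
      rw [hVO]
      exact ⟨w, hwO, rfl⟩
    · intro t htV htZ
      obtain ⟨t', rfl⟩ := hlift' t htZ
      have ht' : t' ∈ An.Pts.map i ⁻¹' V := htV
      rw [hVO] at ht'
      obtain ⟨o, hoO, rfl⟩ := ht'
      refine ⟨An.Pts.map j o, ⟨⟨?_, hON hoO⟩, hcomp o⟩, ?_⟩
      · change o ∈ An.Pts.map j ⁻¹' N'
        rw [hN'O]
        exact hoO
      · rintro y'' ⟨⟨hy1, hy2⟩, hy3⟩
        have hy3' : An.Pts.map ρ y'' = An.Pts.map i (An.Pts.map g o) := hy3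
        obtain ⟨o', rfl⟩ := hlift y'' (by rw [hy3']; exact htZ)
        have ho' : o' ∈ An.Pts.map j ⁻¹' N' := hy1
        rw [hN'O] at ho'
        rw [hcomp] at hy3'
        rw [hinj ho' hoO (hie.injective hy3')]

end OnePt

/-- Local homeomorphism at the points of the range of an open embedding. -/
theorem isLocalHomeomorphOn_of_comp {X Y Z : Type*} [TopologicalSpace X] [TopologicalSpace Y]
    [TopologicalSpace Z] {i : X → Y} (hi : IsOpenEmbedding i) {f : Y → Z}
    (h : IsLocalHomeomorph (f ∘ i)) : IsLocalHomeomorphOn f (Set.range i) := by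
  refine IsLocalHomeomorphOn.mk f _ ?_
  rintro _ ⟨x, rfl⟩
  obtain ⟨e, hx, he⟩ := h x
  have hne : Nonempty X := ⟨x⟩
  refine ⟨(hi.toOpenPartialHomeomorph i).symm.trans e, ?_, ?_⟩
  · rw [OpenPartialHomeomorph.trans_source]
    refine ⟨?_, ?_⟩
    · rw [OpenPartialHomeomorph.symm_source, IsOpenEmbedding.toOpenPartialHomeomorph_target]
      exact ⟨x, rfl⟩
    · rw [Set.mem_preimage]
      have : (hi.toOpenPartialHomeomorph i).symm (i x) = x :=
        (hi.toOpenPartialHomeomorph i).left_inv (by simp)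
      rw [this]
      exact hx
  · intro y hy
    rw [OpenPartialHomeomorph.trans_source, OpenPartialHomeomorph.symm_source,
      IsOpenEmbedding.toOpenPartialHomeomorph_target] at hy
    obtain ⟨⟨x', rfl⟩, -⟩ := hy
    have : (hi.toOpenPartialHomeomorph i).symm (i x') = x' :=
      (hi.toOpenPartialHomeomorph i).left_inv (by simp)
    change f (i x') = e ((hi.toOpenPartialHomeomorph i).symm (i x'))
    rw [this]
    exact congrFun he x'

section Aff

/-- The coordinate ring of affine space. -/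
abbrev Rd (d : ℕ) : CommRingCat.{0} := CommRingCat.of (MvPolynomial (Fin d) ℂ)

/-- Coordinates on the points of affine space. -/
def coordAff (d : ℕ) : An.Pts (Aff d) ≃ₜ (Fin d → ℂ) :=
  (H162.PtsSpecA.homeoSpecA (MvPolynomial (Fin d) ℂ)).trans (H162.RelLine.affine (Fin d))

/-- Real coordinates on an open box. -/
theorem isBox_of_homeo {T : Type} [TopologicalSpace T] {d : ℕ} (e : T ≃ₜ (Fin d → ℂ))
    (t : T) (W : Opens T) (ht : t ∈ W) : ∃ V : Opens T, IsBox V ∧ t ∈ V ∧ V ≤ W := by
  -- real coordinates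
  let r : (Fin d → ℂ) ≃ₜ (Fin d ⊕ Fin d → ℝ) :=
    (Homeomorph.piCongrRight fun _ : Fin d => Complex.equivRealProdCLM.toHomeomorph).trans
      ((Homeomorph.mk (Equiv.arrowProdEquivProdArrow (Fin d) (fun _ => ℝ) (fun _ => ℝ))
        (by
          refine Continuous.prodMk ?_ ?_
          · exact continuous_pi fun i => continuous_fst.comp (continuous_apply i)
          · exact continuous_pi fun i => continuous_snd.comp (continuous_apply i))
        (by
          refine continuous_pi fun i => ?_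
          exact ((continuous_apply i).comp continuous_fst).prodMk
            ((continuous_apply i).comp continuous_snd))).trans
        Homeomorph.sumArrowHomeomorphProdArrow.symm)
  let E : T ≃ₜ (Fin d ⊕ Fin d → ℝ) := e.trans r
  obtain ⟨a, b, ha, hb, hab⟩ := exists_obox (E.symm ⁻¹' W) (W.2.preimage E.symm.continuous) (E t)
    (by rw [Set.mem_preimage, E.symm_apply_apply]; exact ht)
  let V : Opens T := ⟨E ⁻¹' (H537.Box.obox a b), (H537.Box.obox a b).2.preimage E.continuous⟩
  refine ⟨V, ?_, fun i => ⟨ha i, hb i⟩, ?_⟩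
  · -- an open box is homeomorphic to a power of the line
    have hIv : ∀ i, Strip.IsIv (⟨Set.Ioo (a i) (b i), isOpen_Ioo⟩ : Opens ℝ) := fun i =>
      ⟨Set.ordConnected_Ioo, E t i, ha i, hb i⟩
    let h : ∀ i, Set.Ioo (a i) (b i) ≃ₜ ℝ := fun i => (isIv_homeo (hIv i)).some
    refine ⟨Fin d ⊕ Fin d, inferInstance, inferInstance, ⟨?_⟩⟩
    let k : (H537.Box.obox a b) ≃ₜ ((i : Fin d ⊕ Fin d) → Set.Ioo (a i) (b i)) :=
      { toFun := fun x i => ⟨x.1 i, x.2 i⟩
        invFun := fun y => ⟨fun i => (y i).1, fun i => (y i).2⟩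
        left_inv := fun _ => rfl
        right_inv := fun _ => rfl
        continuous_toFun := continuous_pi fun i => Continuous.subtype_mk
          ((continuous_apply i).comp continuous_subtype_val) _
        continuous_invFun := Continuous.subtype_mk
          (continuous_pi fun i => continuous_subtype_val.comp (continuous_apply i)) _ }
    let k2 : V ≃ₜ (H537.Box.obox a b) :=
      E.subtype (fun x => Iff.rfl)
    exact ((Homeomorph.piCongrRight fun i => (h i).symm).trans k.symm).trans k2.symm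
  · intro x hx
    have := hab hx
    rw [Set.mem_preimage, E.symm_apply_apply] at this
    exact this

theorem isBox_aff (d : ℕ) (t : An.Pts (Aff d)) (W : Opens (An.Pts (Aff d))) (ht : t ∈ W) :
    ∃ V : Opens (An.Pts (Aff d)), IsBox V ∧ t ∈ V ∧ V ≤ W :=
  isBox_of_homeo (coordAff d) t W ht

/-- The structure morphism of `Spec ℂ[x_1, …, x_d]`. -/
@[reducible] def overR (d : ℕ) : (Spec (Rd d)).Over An.SC := inferInstanceAs ((Aff d).Over An.SC)

attribute [local instance] overR

theorem lftR (d : ℕ) : LocallyOfFiniteType (Spec (Rd d) ↘ An.SC) :=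
  inferInstanceAs (LocallyOfFiniteType (Aff d ↘ An.SC))

attribute [local instance] lftR

/-- The affine line over affine space. -/
def AffT (d : ℕ) : Scheme.{0} := H526.T3.AT ℂ d

instance (d : ℕ) : (AffT d).Over An.SC := H882.LinePts.overAA (Rd d)

/-- The projection. -/
def prA (d : ℕ) : AffT d ⟶ Aff d := H526.T3.prS ℂ d

instance (d : ℕ) : (prA d).IsOver An.SC := ⟨rfl⟩

instance (d : ℕ) : LocallyOfFiniteType (AffT d ↘ An.SC) := H882.LinePts.lft_AA (Rd d)

/-- The points of the affine line over affine space. -/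
def Phi (d : ℕ) : An.Pts (AffT d) ≃ₜ ℂ × An.Pts (Aff d) :=
  (H882.LinePts.homeo (Rd d)).trans (Homeomorph.prodComm _ _)

theorem Phi_snd (d : ℕ) (b : An.Pts (AffT d)) : (Phi d b).2 = An.Pts.map (prA d) b := rfl

end Aff

end Groth.Agent.An.H889.FibA
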