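import Groth.Agent.An.H889.FibA
import Groth.Agent.An.H526.T3Scheme

/-!
# `FibOut d`: Noether normalization and the direct images of constant sheaves
-/

set_option autoImplicit false

open CategoryTheory AlgebraicGeometry TopologicalSpace Topology Opposite Limits

noncomputable section

namespace Groth.Agent.An.H889.FibB

open TDefs TopMain AlongOf TameBox FibA Chain Groth.Agent.An.H809.PushLC
open Groth.Agent.An.H809.AcalPush
open Groth.Agent.An.H884.ClBC Groth.Agent.An.H884.ClPush Groth.Agent.An.H888.ClsLeray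
open Groth.Agent.An.H866.T2Defs

variable (d : ℕ) (Δ : Polynomial (MvPolynomial (Fin d) ℂ))

/-- The complement of the hypersurface. -/
def opD : (AffT d).Opens := (PrimeSpectrum.basicOpen Δ : (H526.T3.AT ℂ d).Opens)

/-- The hypersurface `Δ = 0` in the affine line over `Aff d`. -/
def VD : Scheme.{0} := Spec (CommRingCat.of (Polynomial (MvPolynomial (Fin d) ℂ) ⧸ Ideal.span {Δ}))

/-- The closed immersion. -/
def jD : VD d Δ ⟶ AffT d := Spec.map (CommRingCat.ofHom (Ideal.Quotient.mk (Ideal.span {Δ})))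

instance : IsClosedImmersion (jD d Δ) := by
  unfold jD
  exact IsClosedImmersion.spec_of_surjective _ Ideal.Quotient.mk_surjective

theorem range_jD : Set.range (jD d Δ) = ((opD d Δ : Set (AffT d)))ᶜ := by
  have h1 : Set.range (jD d Δ) = PrimeSpectrum.zeroLocus (Ideal.span {Δ} : Set _) := by
    have h0 : Function.Surjective
        (Ideal.Quotient.mk (Ideal.span ({Δ} : Set (Polynomial (MvPolynomial (Fin d) ℂ))))) :=
      Ideal.Quotient.mk_surjective
    have h2 := range_comap_of_surjective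
      (Polynomial (MvPolynomial (Fin d) ℂ) ⧸ Ideal.span {Δ})
      (Ideal.Quotient.mk (Ideal.span ({Δ} : Set (Polynomial (MvPolynomial (Fin d) ℂ))))) h0
    rw [Ideal.mk_ker] at h2
    exact h2
  have h3 : (PrimeSpectrum.basicOpen Δ : Set (PrimeSpectrum (Polynomial (MvPolynomial (Fin d) ℂ))))ᶜ
      = PrimeSpectrum.zeroLocus {Δ} := by
    rw [PrimeSpectrum.basicOpen_eq_zeroLocus_compl, compl_compl]
  rw [h1, PrimeSpectrum.zeroLocus_span]
  exact h3.symm

instance : (VD d Δ).Over An.SC := ⟨jD d Δ ≫ (AffT d ↘ An.SC)⟩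

instance : (jD d Δ).IsOver An.SC := ⟨rfl⟩

variable {d Δ}

theorem isFinite_jD_prA (hΔ : Δ.Monic) : IsFinite (jD d Δ ≫ prA d) :=
  H526.T3.isFinite_of_monic Δ hΔ

/-- The ramification locus. -/
def DD (d : ℕ) (Δ : Polynomial (MvPolynomial (Fin d) ℂ)) : Set (ℂ × An.Pts (Aff d)) :=
  Set.range (fun x : An.Pts (VD d Δ) => Phi d (An.Pts.map (jD d Δ) x))

theorem mem_DD (b : An.Pts (AffT d)) : Phi d b ∈ DD d Δ ↔ b.pt ∉ opD d Δ := by
  constructor
  · rintro ⟨x, hx⟩
    have h1 : An.Pts.map (jD d Δ) x = b := (Phi d).injective hx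
    have h2 : b ∈ Set.range (An.Pts.map (jD d Δ)) := ⟨x, h1⟩
    rw [H871.Imm.range_map_of_isClosedImmersion, range_jD] at h2
    exact h2
  · intro h
    have h2 : b ∈ Set.range (An.Pts.map (jD d Δ)) := by
      rw [H871.Imm.range_map_of_isClosedImmersion, range_jD]
      exact h
    obtain ⟨x, rfl⟩ := h2
    exact ⟨x, rfl⟩

theorem ram_DD (hΔ : Δ.Monic) : Ram (DD d Δ) := by
  have hfin := isFinite_jD_prA (d := d) hΔ
  refine ram_of (An.Pts.map (jD d Δ ≫ prA d)) (fun x => Phi d (An.Pts.map (jD d Δ) x))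
    ((Phi d).continuous.comp (An.Pts.continuous_map _)) rfl ?_
    (H879.FiniteClosed.isClosedMap_map_of_isFinite _)
    (H879.FiniteClosed.finite_fibre_of_isFinite _)
  intro x
  rw [Phi_snd]
  exact (An.Pts.map_comp (jD d Δ) (prA d) x).symm

section Yr

variable {Y : Scheme.{0}} [Y.Over An.SC] [LocallyOfFiniteType (Y ↘ An.SC)] [IsAffine Y]
  (π : Y ⟶ AffT d) [π.IsOver An.SC] [IsFinite π]

/-- The map on points. -/
def piT : C(An.Pts Y, ℂ × An.Pts (Aff d)) :=
  (⟨Phi d, (Phi d).continuous⟩ : C(An.Pts (AffT d), ℂ × An.Pts (Aff d))).comp (An.Pts.mapC π)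

omit [LocallyOfFiniteType (Y ↘ An.SC)] [IsAffine Y] [IsFinite π] in
theorem piT_apply (y : An.Pts Y) : piT π y = Phi d (An.Pts.map π y) := rfl

omit [LocallyOfFiniteType (Y ↘ An.SC)] in
theorem t2_pts : T2Space (An.Pts Y) := by
  have h := H879.FiniteClosed.t2Space_of_isAffineOpen (isAffineOpen_top Y)
  have e : An.Pts Y ≃ₜ {x : An.Pts Y // x.pt ∈ (⊤ : Y.Opens)} :=
    { toFun := fun x => ⟨x, trivial⟩
      invFun := fun x => x.1
      left_inv := fun _ => rfl
      right_inv := fun _ => rfl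
      continuous_toFun := continuous_id.subtype_mk _
      continuous_invFun := continuous_subtype_val }
  exact e.symm.t2Space

omit [LocallyOfFiniteType (Y ↘ An.SC)] in
theorem sit (hΔ : Δ.Monic) (het : Etale (π ∣_ opD d Δ)) :
    Sit (An.Pts Y) (An.Pts (Aff d)) (piT π) (DD d Δ) where
  t2 := t2_pts
  cl := (Phi d).isClosedMap.comp (H879.FiniteClosed.isClosedMap_map_of_isFinite π)
  fin b := by
    have h1 : (piT π ⁻¹' {b}) = An.Pts.map π ⁻¹' {(Phi d).symm b} := by
      ext y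
      change Phi d (An.Pts.map π y) = b ↔ An.Pts.map π y = (Phi d).symm b
      exact ((Phi d).toEquiv.eq_symm_apply).symm
    rw [h1]
    exact H879.FiniteClosed.finite_fibre_of_isFinite π _
  ram := ram_DD hΔ
  base := isBox_aff d
  cov := by
    have hT2 : T2Space (An.Pts Y) := t2_pts
    have hcl := H879.FiniteClosed.isClosedMap_map_of_isFinite π
    have hlh : IsLocalHomeomorphOn (An.Pts.map π) (Set.range (An.Pts.map (π ⁻¹ᵁ opD d Δ).ι)) := by
      have i1 : (π ∣_ opD d Δ).IsOver An.SC := H871.Imm.isOver_morphismRestrict π _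
      have i2 : LocallyOfFiniteType ((opD d Δ).toScheme ↘ An.SC) :=
        H871.Imm.locallyOfFiniteType_opens _
      refine isLocalHomeomorphOn_of_comp (H871.Imm.isOpenEmbedding_map (π ⁻¹ᵁ opD d Δ).ι) ?_
      have hcomp : An.Pts.map π ∘ An.Pts.map (π ⁻¹ᵁ opD d Δ).ι =
          An.Pts.map (opD d Δ).ι ∘ An.Pts.map (π ∣_ opD d Δ) := by
        funext x
        refine Subtype.ext ?_
        simp only [Function.comp_apply, An.Pts.map_val, Category.assoc, morphismRestrict_ι]
      rw [hcomp]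
      exact (H871.Imm.isOpenEmbedding_map (opD d Δ).ι).isLocalHomeomorph.comp
        (H866.EtLH.isLocalHomeomorph_map (π ∣_ opD d Δ))
    have hrange : Set.range (An.Pts.map (π ⁻¹ᵁ opD d Δ).ι) =
        An.Pts.map π ⁻¹' (An.Pts.pt ⁻¹' (opD d Δ : Set (AffT d))) := by
      rw [H871.Imm.range_map_of_isOpenImmersion, Scheme.Opens.range_ι]
      ext y
      rw [Set.mem_preimage, Set.mem_preimage, Set.mem_preimage, An.Pts.pt_map]
      rfl
    rw [hrange] at hlh
    have hcov : IsCoveringMapOn (An.Pts.map π) (An.Pts.pt ⁻¹' (opD d Δ : Set (AffT d))) :=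
      hcl.isCoveringMapOn_of_isLocalHomeomorphOn
        (fun x _ => H879.FiniteClosed.finite_fibre_of_isFinite π x) hlh
    intro p hp
    have h2 := hcov.homeomorph_comp (Phi d)
    have h3 : p ∈ (Phi d).symm ⁻¹' (An.Pts.pt ⁻¹' (opD d Δ : Set (AffT d))) := by
      by_contra hne
      apply hp
      have := (mem_DD (Δ := Δ) ((Phi d).symm p)).2 hne
      rwa [(Phi d).apply_symm_apply] at this
    exact h2 p h3

omit [LocallyOfFiniteType (Y ↘ An.SC)] [IsAffine Y] in
/-- Local homeomorphisms along strata. -/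
theorem exists_along (hΔ : Δ.Monic) (Z : Set (Aff d)) (hZ : IsClosed Z) (hirr : IsIrreducible Z) :
    ∃ U : (Aff d).Opens, (Z ∩ U).Nonempty ∧ ∀ z : An.Pts (Aff d), z.pt ∈ U → z.pt ∈ Z →
      AlongT (piT π) (DD d Δ) (An.Pts.pt ⁻¹' Z) z := by
  have hfin := isFinite_jD_prA (d := d) hΔ
  obtain ⟨U₁, hne₁, h₁⟩ := exists_onePt (jD d Δ ≫ prA d) Z hZ hirr
  -- the preimage of the hypersurface
  let W : Scheme.{0} := pullback π (jD d Δ)
  let jW : W ⟶ Y := pullback.fst π (jD d Δ)
  let _ : W.Over An.SC := ⟨jW ≫ (Y ↘ An.SC)⟩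
  have jo : jW.IsOver An.SC := ⟨rfl⟩
  have hsq : jW ≫ π = pullback.snd π (jD d Δ) ≫ jD d Δ := pullback.condition
  have hWfin : IsFinite (jW ≫ π ≫ prA d) := by
    rw [reassoc_of% hsq]
    infer_instance
  have hWo : (jW ≫ π ≫ prA d).IsOver An.SC := inferInstance
  obtain ⟨U₂, hne₂, h₂⟩ := exists_onePt (jW ≫ π ≫ prA d) Z hZ hirr
  refine ⟨U₁ ⊓ U₂, ?_, fun z hz hzZ => ?_⟩
  · obtain ⟨x, hx, hx1, hx2⟩ := hirr.2 U₁ U₂ U₁.2 U₂.2 hne₁ hne₂
    exact ⟨x, hx, hx1, hx2⟩
  · have hj := H871.Imm.isClosedEmbedding_map (jD d Δ)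
    have hjW := H871.Imm.isClosedEmbedding_map jW
    have hr : Set.range (An.Pts.map jW) = piT π ⁻¹' (DD d Δ) := by
      rw [H871.Imm.range_map_of_isClosedImmersion]
      ext y
      rw [Set.mem_preimage, Set.mem_preimage, piT_apply, mem_DD, An.Pts.pt_map]
      change y.pt ∈ Set.range (pullback.fst π (jD d Δ)) ↔ _
      rw [Scheme.Pullback.range_fst, range_jD]
      rfl
    refine alongT_of ?_ ?_
    · exact OnePtS.of_onePt (h₁ z hz.1 hzZ) (fun x => Phi d (An.Pts.map (jD d Δ) x))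
        ((Phi d).isEmbedding.comp hj.isEmbedding) (fun x => by
          rw [Phi_snd]
          exact (An.Pts.map_comp (jD d Δ) (prA d) x).symm)
    · rw [← hr]
      refine OnePtS.of_onePt (h₂ z hz.2 hzZ) (An.Pts.map jW) hjW.isEmbedding (fun x => ?_)
      change (Phi d (An.Pts.map π (An.Pts.map jW x))).2 = An.Pts.map (jW ≫ π ≫ prA d) x
      rw [Phi_snd]
      refine Subtype.ext ?_
      simp only [An.Pts.map_val, Category.assoc]

end Yr

end Groth.Agent.An.H889.FibB
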