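import Groth.Agent.An.H889.OCoh
import Groth.Agent.An.H537.Cosheaf

/-!
# Cohomology theories from cosheaves

`ofCosheaf hZ F : OC Y` for a cosheaf `Z : Opens Y ⥤ A` (helper537) and `F : A`;
`IsCosheaf.comap` : direct image of a cosheaf along a closed map with finite fibres.
-/

set_option autoImplicit false
universe w v u t t'

open CategoryTheory Category Limits Abelian TopologicalSpace

noncomputable section

namespace Groth.Agent.An.H889.OCInst

open Groth.Agent.An.H537 Gen Cosheaf OCoh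

variable {Y : Type t} [TopologicalSpace Y] {A : Type u} [Category.{v} A] [Abelian A]
  {Z : Opens Y ⥤ A} (hZ : IsCosheaf Z)

section

variable [HasExt.{w} A] [EnoughInjectives A] (F : A)

include hZ in
omit [HasExt.{w} A] [EnoughInjectives A] in
theorem isZero_bot : IsZero (Z.obj ⊥) := by
  rw [IsZero.iff_id_eq_zero]
  exact hZ.hom_ext (I := PEmpty) (fun i => i.elim) ⊥ (fun i => i.elim) bot_le _ _ (fun i => i.elim)

theorem r_mvδ_left (n : ℕ) (U V : Opens Y) (x : Gen.H Z F n (U ⊓ V)) :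
    r Z F (n + 1) (le_sup_left : U ≤ U ⊔ V) (mvδ hZ U V F n x) = 0 := by
  have e : ι Z (le_sup_left : U ≤ U ⊔ V) = biprod.inl ≫ (mvS Z U V).g := (biprod.inl_desc _ _).symm
  change (Ext.mk₀ (ι Z (le_sup_left : U ≤ U ⊔ V))).comp
    ((shortExact hZ U V).extClass.comp x (add_comm 1 n)) (zero_add _) = 0
  rw [e, ← Ext.mk₀_comp_mk₀_assoc, (shortExact hZ U V).comp_extClass_assoc, Ext.comp_zero]

theorem r_mvδ_right (n : ℕ) (U V : Opens Y) (x : Gen.H Z F n (U ⊓ V)) :
    r Z F (n + 1) (le_sup_right : V ≤ U ⊔ V) (mvδ hZ U V F n x) = 0 := by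
  have e : ι Z (le_sup_right : V ≤ U ⊔ V) = biprod.inr ≫ (mvS Z U V).g := (biprod.inr_desc _ _).symm
  change (Ext.mk₀ (ι Z (le_sup_right : V ≤ U ⊔ V))).comp
    ((shortExact hZ U V).extClass.comp x (add_comm 1 n)) (zero_add _) = 0
  rw [e, ← Ext.mk₀_comp_mk₀_assoc, (shortExact hZ U V).comp_extClass_assoc, Ext.comp_zero]

/-- The cohomology theory of a cosheaf. -/
def ofCosheaf : OC.{w} Y where
  H q U := Gen.H Z F q U
  res q _ _ h := r Z F q h
  res_self q _ a := r_refl F q a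
  res_res q _ _ _ h k a := r_r F q h k a
  d q U V := mvδ hZ U V F q
  d_nat _ _ _ _ _ hU hV x := res_mvδ hZ hU hV x
  sep U V a ha hb := by
    obtain ⟨f, rfl⟩ := exists_mk₀ Z a
    rw [res_mk₀] at ha hb
    have h1 : ι Z (le_sup_left : U ≤ U ⊔ V) ≫ f = 0 := mk₀_inj Z (ha.trans (Ext.mk₀_zero _ _).symm)
    have h2 : ι Z (le_sup_right : V ≤ U ⊔ V) ≫ f = 0 := mk₀_inj Z (hb.trans (Ext.mk₀_zero _ _).symm)
    have h3 : f = 0 := hZ.hom_ext₂ (by rw [h1, comp_zero]) (by rw [h2, comp_zero])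
    rw [h3, Ext.mk₀_zero]
  glue q U V a b h := mv_glue hZ a b h
  d_left q U V a := mvδ_res_left hZ a
  d_right q U V a := mvδ_res_right hZ a
  res_d_left q U V x := r_mvδ_left hZ F q U V x
  res_d_right q U V x := r_mvδ_right hZ F q U V x
  ex_d q U V c h1 h2 := exists_mvδ hZ c h1 h2
  ex_x q U V x h := by
    obtain ⟨a, b, e⟩ := exists_res_sub hZ x h
    exact ⟨a, b, e.symm⟩
  bot q := ⟨fun a b => by
    have h0 : ∀ x : Gen.H Z F q (⊥ : Opens Y), x = 0 := fun x => by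
      rw [← Ext.mk₀_id_comp x, (IsZero.iff_id_eq_zero _).1 (isZero_bot hZ), Ext.mk₀_zero,
        Ext.zero_comp]
    rw [h0 a, h0 b]⟩
  locvan q U y hy c := exists_nhds hZ q F c y hy

end

section Comap

variable {B : Type t'} [TopologicalSpace B]

/-- Separation of finitely many points by disjoint opens inside prescribed neighbourhoods. -/
theorem exists_disjoint_opens [T2Space Y] {S : Set Y} (hS : S.Finite) (W : S → Opens Y)
    (hW : ∀ s : S, s.1 ∈ W s) :
    ∃ V : S → Opens Y, (∀ s, s.1 ∈ V s) ∧ (∀ s, V s ≤ W s) ∧ ∀ s t, s ≠ t → Disjoint (V s) (V t) := by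
  obtain ⟨U, hU, hd⟩ := hS.t2_separation
  refine ⟨fun s => ⟨U s.1 ∩ W s, (hU s.1).2.inter (W s).2⟩, fun s => ⟨(hU s.1).1, hW s⟩,
    fun s x hx => hx.2, fun s t hst => ?_⟩
  have := hd s.2 t.2 (fun h => hst (Subtype.ext h))
  rw [← Opens.coe_disjoint]
  exact this.mono (fun x hx => hx.1) (fun x hx => hx.1)

/-- Inverse image of opens, as a functor. -/
def pre (π : Y → B) (hπ : Continuous π) : Opens B ⥤ Opens Y where
  obj U := ⟨π ⁻¹' U, U.2.preimage hπ⟩
  map h := homOfLE (fun _ hx => leOfHom h hx)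

include hZ in
/-- Direct image of a cosheaf along a closed map with finite fibres. -/
theorem comap [T2Space Y] (π : Y → B) (hπ : Continuous π) (hcl : IsClosedMap π)
    (hfin : ∀ b, (π ⁻¹' {b}).Finite) : IsCosheaf (pre π hπ ⋙ Z) := by
  let φ : Opens B → Opens Y := fun U => (pre π hπ).obj U
  have hφ : ∀ {V U : Opens B} (h : V ≤ U), φ V ≤ φ U := fun h x hx => h hx
  refine ⟨fun {V U} h => hZ.mono (hφ h), ?_, ?_, ?_⟩
  · intro I U V hi hV F f g hfg
    refine hZ.hom_ext (fun i => φ (U i)) (φ V) (fun i => hφ (hi i)) ?_ f g hfg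
    intro x hx
    obtain ⟨i, hx'⟩ := Opens.mem_iSup.1 (hV hx)
    exact Opens.mem_iSup.2 ⟨i, hx'⟩
  · intro I U V hi hV F s hs
    refine hZ.glue (fun i => φ (U i)) (φ V) (fun i => hφ (hi i)) ?_ s hs
    intro x hx
    obtain ⟨i, hx'⟩ := Opens.mem_iSup.1 (hV hx)
    exact Opens.mem_iSup.2 ⟨i, hx'⟩
  · intro I Q p _ U s b hb
    have h1 : ∀ y : (π ⁻¹' {b}), ∃ (V : Opens Y) (h : V ≤ φ U), y.1 ∈ V ∧
        ∃ t : Z.obj V ⟶ I, t ≫ p = ι Z h ≫ s := fun y =>
      hZ.lift p s y.1 (show π y.1 ∈ U from by rw [y.2]; exact hb)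
    choose W hWU hyW t ht using h1
    obtain ⟨V, hyV, hVW, hdisj⟩ := exists_disjoint_opens (hfin b) W hyW
    -- the neighbourhood of `b`
    let N : Opens Y := ⨆ y, V y
    have hN : π ⁻¹' {b} ⊆ N := fun y hy => Opens.mem_iSup.2 ⟨⟨y, hy⟩, hyV ⟨y, hy⟩⟩
    let P : Opens B := ⟨(π '' (N : Set Y)ᶜ)ᶜ, (hcl _ N.2.isClosed_compl).isOpen_compl⟩
    have hbP : b ∈ P := by
      rintro ⟨y, hy, e⟩
      exact hy (hN e)
    have hPN : φ P ≤ N := by
      intro y hy
      by_contra hyN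
      exact hy ⟨y, hyN, rfl⟩
    refine ⟨P ⊓ U, inf_le_right, ⟨hbP, hb⟩, ?_⟩
    let V' : (π ⁻¹' {b}) → Opens Y := fun y => V y ⊓ φ (P ⊓ U)
    have hle : ∀ y, V' y ≤ φ (P ⊓ U) := fun y => inf_le_right
    obtain ⟨t', ht'⟩ : ∃ t' : Z.obj (φ (P ⊓ U)) ⟶ I, ∀ y, ι Z (hle y) ≫ t' =
        ι Z ((inf_le_left : V' y ≤ V y).trans (hVW y)) ≫ t y := by
      have : Finite (π ⁻¹' {b}) := (hfin b).to_subtype
      obtain ⟨n, ⟨e⟩⟩ := Finite.exists_equiv_fin (π ⁻¹' {b})
      obtain ⟨f, hf⟩ := hZ.glue (I := Fin n) (fun i => V' (e.symm i)) (φ (P ⊓ U))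
        (fun i => hle _) (by
          intro y hy
          obtain ⟨z, hz⟩ := Opens.mem_iSup.1 (hPN (hy.1 : y ∈ φ P))
          refine Opens.mem_iSup.2 ⟨e z, ?_⟩
          rw [e.symm_apply_apply]
          exact ⟨hz, hy⟩)
        (fun i => ι Z ((inf_le_left : V' (e.symm i) ≤ V (e.symm i)).trans (hVW (e.symm i))) ≫
          t (e.symm i)) (by
          intro i j
          by_cases hij : i = j
          · subst hij
            rfl
          · have hbot : V' (e.symm i) ⊓ V' (e.symm j) ≤ ⊥ := by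
              have := (hdisj (e.symm i) (e.symm j) (fun h => hij (e.symm.injective h))).le_bot
              exact (inf_le_inf inf_le_left inf_le_left).trans this
            have hbot' : V' (e.symm i) ⊓ V' (e.symm j) = ⊥ := le_bot_iff.1 hbot
            apply IsZero.eq_of_src
            rw [hbot']
            exact isZero_bot hZ)
      refine ⟨f, fun y => ?_⟩
      have := hf (e y)
      have key : ∀ (y' : (π ⁻¹' {b})) (_ : y' = y), ι Z (hle y') ≫ f =
          ι Z ((inf_le_left : V' y' ≤ V y').trans (hVW y')) ≫ t y' →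
          ι Z (hle y) ≫ f = ι Z ((inf_le_left : V' y ≤ V y).trans (hVW y)) ≫ t y := by
        rintro _ rfl h
        exact h
      exact key _ (e.symm_apply_apply y) this
    refine ⟨t', ?_⟩
    have : Finite (π ⁻¹' {b}) := (hfin b).to_subtype
    obtain ⟨n, ⟨e⟩⟩ := Finite.exists_equiv_fin (π ⁻¹' {b})
    change t' ≫ p = ι Z (hφ (inf_le_right : P ⊓ U ≤ U)) ≫ s
    refine hZ.hom_ext (I := Fin n) (fun i => V' (e.symm i)) (φ (P ⊓ U)) (fun i => hle _) (by
          intro y hy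
          obtain ⟨z, hz⟩ := Opens.mem_iSup.1 (hPN (hy.1 : y ∈ φ P))
          refine Opens.mem_iSup.2 ⟨e z, ?_⟩
          rw [e.symm_apply_apply]
          exact ⟨hz, hy⟩) _ _ (fun i => ?_)
    rw [← assoc, ht', assoc, ht, ← assoc, ι_comp, ← assoc, ι_comp]

end Comap

end Groth.Agent.An.H889.OCInst
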