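import Groth.Agent.An.H889.OCoh

/-!
# Locally bijective maps of presheaves preserve `LCat`
-/

set_option autoImplicit false
universe w w' u

open TopologicalSpace

namespace Groth.Agent.An.H889.PabLoc

open OCoh

variable {T : Type u} [TopologicalSpace T]

/-- A natural map of presheaves which is locally bijective. -/
structure LocIso (P : PAb.{w} T) (Q : PAb.{w'} T) where
  φ : ∀ V : Opens T, P.F V →+ Q.F V
  nat : ∀ {V V' : Opens T} (h : V' ≤ V) (a : P.F V), Q.res h (φ V a) = φ V' (P.res h a)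
  inj : ∀ (V : Opens T) (a : P.F V), φ V a = 0 → ∀ t ∈ V, ∃ (V' : Opens T) (h : V' ≤ V), t ∈ V' ∧
    P.res h a = 0
  surj : ∀ (V : Opens T) (b : Q.F V), ∀ t ∈ V, ∃ (V' : Opens T) (h : V' ≤ V), t ∈ V' ∧
    ∃ a : P.F V', φ V' a = Q.res h b

/-- A locally bijective map preserves local constancy along a subset. -/
theorem LocIso.lcat {P : PAb.{w} T} {Q : PAb.{w'} T} (e : LocIso P Q) {Z : Set T} {z : T}
    (h : P.LCat Z z) : Q.LCat Z z := by
  obtain ⟨V, hzV, S, hfin, hS⟩ := h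
  refine ⟨V, hzV, S.map (e.φ V), ?_, fun t ht htZ => ⟨?_, ?_⟩⟩
  · have h1 : ((S.map (e.φ V) : AddSubgroup (Q.F V)) : Set (Q.F V)).Finite := by
      rw [AddSubgroup.coe_map]
      exact (Set.toFinite (S : Set (P.F V))).image _
    exact h1.to_subtype
  · rintro _ ⟨s, hs, rfl⟩ V' k htV' h0
    rw [e.nat] at h0
    obtain ⟨V'', k', htV'', h1⟩ := e.inj V' _ h0 t htV'
    rw [P.res_res] at h1
    rw [(hS t ht htZ).1 s hs V'' _ htV'' h1, map_zero]
  · intro V' htV' g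
    obtain ⟨V₁, k₁, htV₁, a, ha⟩ := e.surj V' g t htV'
    obtain ⟨s, hs, V₂, k₂, k₂', htV₂, h2⟩ := (hS t ht htZ).2 V₁ htV₁ a
    refine ⟨_, ⟨s, hs, rfl⟩, V₂, k₂, k₂'.trans k₁, htV₂, ?_⟩
    rw [e.nat, h2, ← e.nat, ha, Q.res_res]

/-- A natural isomorphism. -/
def LocIso.ofEquiv {P : PAb.{w} T} {Q : PAb.{w'} T} (φ : ∀ V : Opens T, P.F V ≃+ Q.F V)
    (nat : ∀ {V V' : Opens T} (h : V' ≤ V) (a : P.F V), Q.res h (φ V a) = φ V' (P.res h a)) :
    LocIso P Q where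
  φ V := (φ V).toAddMonoidHom
  nat h a := nat h a
  inj V a h0 t ht := ⟨V, le_rfl, ht, by
    rw [P.res_self]
    exact (φ V).injective (by rw [map_zero]; exact h0)⟩
  surj V b t ht := ⟨V, le_rfl, ht, (φ V).symm b, by
    rw [Q.res_self]
    exact (φ V).apply_symm_apply b⟩

end Groth.Agent.An.H889.PabLoc
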