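import Groth.Agent.An.H889.ConstF
import Groth.Agent.An.H889.PabLoc
import Groth.Agent.An.H537.ClOpens
import Groth.Agent.An.H888.ClsLeray
import Groth.Agent.An.H884.ClPush
import Groth.Agent.An.H867.AcalDef
import Groth.Agent.An.H885.ClConst

/-!
# Direct images on classical sites in terms of classes over the preimages of opens

`f : C(E, T)`.
* `ZE E : Opens E ⥤ Cl.Ab E`, `isCosheaf_ZE`, `constZE M` : the constant sheaf is constant;
* `diesFrom_two` : if the classes of degree `≥ 2` of `G` over the `f⁻¹ V` die locally on `T`, the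
  classes over all `A ×_T E` die locally on `A`;
* `lcat_push_zero`, `lcat_push_one` : local constancy of `f_* G` and of `coker (f_* I → f_* Q)` from
  that of `V ↦ H^0(f⁻¹ V, G)` and `V ↦ H^1(f⁻¹ V, G)`.
-/

set_option autoImplicit false

open CategoryTheory Limits Opposite Abelian TopologicalSpace Topology An

noncomputable section

namespace Groth.Agent.An.H889.PushCl

open Groth.Agent.An.H537 Cosheaf ClOpens OCoh PabLoc ConstF Groth.Agent.Proet.ZU
open Groth.Agent.An.H884.ClBC Groth.Agent.An.H884.ClPush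
open Groth.Agent.An.H888 ClsH ClsLeray
open Groth.Agent.An.H886 (EtSpace.mem_topology)
open Groth.Agent.An.H867.AcalDef

/-- `W ↦ ℤ_W`. -/
abbrev ZE (E : Type) [TopologicalSpace E] : Opens E ⥤ Cl.Ab E :=
  opensToCl E ⋙ zF.{1} (Cl.topology E)

variable {E T : Type} [TopologicalSpace E] [TopologicalSpace T]

theorem isCosheaf_ZE : IsCosheaf (ZE E) := isCosheaf (Cl.self E)

/-- Every sieve covering an open is refined by opens. -/
theorem exists_open_of_mem {W : Opens E} (S : Sieve ((opensToCl E).obj W))
    (hS : S ∈ Cl.topology E ((opensToCl E).obj W)) (y : E) (hy : y ∈ W) :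
    ∃ (V : Opens E) (h : V ≤ W), y ∈ V ∧ S ((opensToCl E).map (homOfLE h)) :=
  (openLike (Cl.self E)).refine (U := W) S hS y hy

/-- The constant sheaf is constant. -/
def constZE (M : Type) [AddCommGroup M] : IsConst (ZE E) (Cl.const E M) M where
  c W := ((ev (Cl.topology E) ((opensToCl E).obj W) (Cl.const E M)).symm.toAddMonoidHom).comp
    (H885.ClConst.constSec M ((opensToCl E).obj W))
  nat {U V} h m := by
    change (zF.{1} (Cl.topology E)).map ((opensToCl E).map (homOfLE h)) ≫
      (ev (Cl.topology E) ((opensToCl E).obj U) (Cl.const E M)).symm _ = _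
    rw [map_comp_ev_symm]
    exact congrArg _ (H885.ClConst.res_constSec M ((opensToCl E).map (homOfLE h)) m)
  inj W y hy m hm := by
    have h1 : H885.ClConst.constSec M ((opensToCl E).obj W) m = 0 := by
      have h2 : (ev (Cl.topology E) ((opensToCl E).obj W) (Cl.const E M)).symm
        (H885.ClConst.constSec M ((opensToCl E).obj W) m) = 0 := hm
      rwa [AddEquiv.map_eq_zero_iff] at h2
    refine (H885.ClConst.isConstVia_constSec M ((opensToCl E).obj W)).inj _ (𝟙 _) ⟨y, hy⟩ m ?_
    rw [h1, map_zero]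
  surj W y hy s := by
    let A := (opensToCl E).obj W
    let s' := ev (Cl.topology E) A (Cl.const E M) s
    let S : Sieve A :=
      { arrows := fun B g => ∃ m, H885.ClPoint.res (Cl.const E M) g s' =
          H885.ClPoint.res (Cl.const E M) g (H885.ClConst.constSec M A m)
        downward_closed := by
          rintro B C g ⟨m, hm⟩ k
          exact ⟨m, by rw [H885.ClPoint.res_comp, H885.ClPoint.res_comp, hm]⟩ }
    have hS : S ∈ Cl.topology E A := by
      apply EtSpace.mem_topology
      intro a
      obtain ⟨C, k, c, m, hc, e⟩ := (H885.ClConst.isConstVia_constSec M A).surj A (𝟙 A) a s'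
      exact ⟨C, k, c, ⟨m, by rw [e, Category.comp_id]⟩, hc⟩
    obtain ⟨V, h, hyV, m, hm⟩ := exists_open_of_mem S hS y hy
    refine ⟨V, h, hyV, m, ?_⟩
    apply (ev (Cl.topology E) ((opensToCl E).obj V) (Cl.const E M)).injective
    refine (ev_map_comp ((opensToCl E).map (homOfLE h)) s).trans ?_
    refine Eq.trans hm ?_
    rw [H885.ClConst.res_constSec]
    exact (AddEquiv.apply_symm_apply _ _).symm

section Push

variable (f : C(E, T))

/-- The preimage of an open. -/
def preO (V : Opens T) : Opens E := ⟨f ⁻¹' V, V.2.preimage f.continuous⟩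

theorem preO_mono {V V' : Opens T} (h : V' ≤ V) : preO f V' ≤ preO f V := fun _ hx => h hx

theorem bcHom_mem (V : Opens T) (q : ((clBC f).obj ((opensToCl T).obj V)).E) :
    q.1.1 ∈ preO f V := by
  change f q.1.1 ∈ V
  rw [q.2]
  exact q.1.2.2

/-- The map `V ×_T E → f⁻¹ V`. -/
def bcHom (V : Opens T) : (clBC f).obj ((opensToCl T).obj V) ⟶ (opensToCl E).obj (preO f V) :=
  ⟨fun q => ⟨q.1.1, bcHom_mem f V q⟩,
    Continuous.subtype_mk (continuous_fst.comp continuous_subtype_val) (bcHom_mem f V), fun _ => rfl⟩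

/-- The map `f⁻¹ V → V ×_T E`. -/
def bcInv (V : Opens T) : (opensToCl E).obj (preO f V) ⟶ (clBC f).obj ((opensToCl T).obj V) :=
  ⟨fun e => ⟨(e.1, ⟨f e.1, e.2⟩), rfl⟩,
    Continuous.subtype_mk (continuous_subtype_val.prodMk
      (Continuous.subtype_mk (f.continuous.comp continuous_subtype_val) (fun e => e.2)))
      (fun _ => rfl), fun _ => rfl⟩

/-- `V ×_T E = f⁻¹ V`. -/
def bcIso (V : Opens T) : (clBC f).obj ((opensToCl T).obj V) ≅ (opensToCl E).obj (preO f V) where
  hom := bcHom f V
  inv := bcInv f V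
  hom_inv_id := by
    apply Cl.hom_ext
    funext q
    apply Subtype.ext
    apply Prod.ext
    · rfl
    · apply Subtype.ext
      exact q.2
  inv_hom_id := rfl

theorem bcIso_hom_nat {V V' : Opens T} (h : V' ≤ V) :
    (bcIso f V').hom ≫ (opensToCl E).map (homOfLE (preO_mono f h)) =
      (clBC f).map ((opensToCl T).map (homOfLE h)) ≫ (bcIso f V).hom := rfl

/-- Points of objects lie in images of opens. -/
theorem exists_opensToCl (B : Cl T) (b : B.E) : ∃ (W : Opens T) (g : (opensToCl T).obj W ⟶ B)
    (w : W), g.toFun w = b := by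
  obtain ⟨e, hb, he⟩ := B.lh b
  have hp : ∀ x, B.p x = e x := fun x => congrFun he x
  refine ⟨⟨e.target, e.open_target⟩, ⟨fun w => e.symm w.1,
    e.continuousOn_symm.comp_continuous continuous_subtype_val (fun w => w.2), fun w => ?_⟩,
    ⟨e b, e.map_source hb⟩, e.left_inv hb⟩
  rw [hp]
  exact e.right_inv w.2

/-- Local killing over all objects from local killing over opens. -/
theorem diesFrom_two (G : Cl.Ab E)
    (h : ∀ (q : ℕ) (t : T) (W : Opens T), t ∈ W →
      ∀ x : HA ((opensToCl E).obj (preO f W)) G (q + 2), ∃ (V : Opens T) (l : V ≤ W), t ∈ V ∧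
        res ((opensToCl E).map (homOfLE (preO_mono f l))) x = 0) :
    DiesFrom.{1, 1} (clBC f) (Cl.topology T) 2 G := by
  intro B q hq x
  obtain ⟨q, rfl⟩ : ∃ n, q = n + 2 := ⟨q - 2, by omega⟩
  let S : Sieve B :=
    { arrows := fun C g => res ((clBC f).map g) x = 0
      downward_closed := fun {C D} g hg k => by
        rw [Functor.map_comp]
        exact res_zero_of_res _ _ _ hg }
  refine ⟨S, ?_, fun _ _ hg => hg⟩
  apply EtSpace.mem_topology
  intro b
  obtain ⟨W, g, w, hw⟩ := exists_opensToCl B b
  obtain ⟨V, l, htV, h0⟩ := h q w.1 W w.2 (res (bcIso f W).inv (res ((clBC f).map g) x))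
  refine ⟨_, (opensToCl T).map (homOfLE l) ≫ g, ⟨w.1, htV⟩, ?_, ?_⟩
  · change res ((clBC f).map ((opensToCl T).map (homOfLE l) ≫ g)) x = 0
    have h1 := congrArg (res (bcIso f V).hom) h0
    rw [res_zero, res_res, res_res, res_res] at h1
    have h2 : (((bcIso f V).hom ≫ (opensToCl E).map (homOfLE (preO_mono f l))) ≫ (bcIso f W).inv) ≫
        (clBC f).map g = (clBC f).map ((opensToCl T).map (homOfLE l) ≫ g) := by
      rw [bcIso_hom_nat, Functor.map_comp, Category.assoc, Category.assoc,
        Iso.hom_inv_id_assoc]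
    rw [← h2]
    rw [Category.assoc, Category.assoc]
    exact h1
  · exact hw

end Push

end Groth.Agent.An.H889.PushCl
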