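import Groth.Agent.An.H889.PushCl
import Groth.Agent.An.H889.AbsOne

/-!
# Local constancy of `f_* G` and of `R^1 f_* G = coker (f_* I → f_* Q)`
-/

set_option autoImplicit false

open CategoryTheory Limits Opposite Abelian TopologicalSpace Topology An

noncomputable section

namespace Groth.Agent.An.H889.PushLC

open Groth.Agent.An.H537 Cosheaf ClOpens OCoh PabLoc ConstF PushCl AbsOne Groth.Agent.Proet.ZU
open Groth.Agent.An.H884.ClBC Groth.Agent.An.H884.ClPush
open Groth.Agent.An.H888 ClsH ClsLeray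
open Groth.Agent.An.H867.AcalDef

variable {E T : Type} [TopologicalSpace E] [TopologicalSpace T] (f : C(E, T))

/-- The preimage functor on opens. -/
def preF : Opens T ⥤ Opens E where
  obj V := preO f V
  map h := homOfLE (preO_mono f h.le)

/-- `Hom(ℤ_V, G) ≅ G(V)`. -/
def isoHom (G : Cl.Ab T) : LocIso (homPab (ZE T) G) (clPab G) :=
  LocIso.ofEquiv (fun V => ev (Cl.topology T) ((opensToCl T).obj V) G) (by
    intro V V' h a
    exact (ev_map_comp ((opensToCl T).map (homOfLE h)) a).symm)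

/-- `G(V ×_T E) = G(f⁻¹ V)`. -/
def midE (G : Cl.Ab E) (V : Opens T) : Cl.sect G ((clBC f).obj ((opensToCl T).obj V)) ≃+
    Cl.sect G ((opensToCl E).obj (preO f V)) :=
  (G.obj.mapIso (bcIso f V).symm.op).addCommGroupIsoToAddEquiv

theorem midE_apply (G : Cl.Ab E) (V : Opens T)
    (s : Cl.sect G ((clBC f).obj ((opensToCl T).obj V))) :
    midE f G V s = G.obj.map (bcInv f V).op s := rfl

theorem bcInv_nat {V V' : Opens T} (h : V' ≤ V) :
    (opensToCl E).map (homOfLE (preO_mono f h)) ≫ bcInv f V =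
      bcInv f V' ≫ (clBC f).map ((opensToCl T).map (homOfLE h)) := rfl

theorem midE_res (G : Cl.Ab E) {V V' : Opens T} (h : V' ≤ V)
    (s : Cl.sect G ((clBC f).obj ((opensToCl T).obj V))) :
    midE f G V' (G.obj.map ((clBC f).map ((opensToCl T).map (homOfLE h))).op s) =
      G.obj.map ((opensToCl E).map (homOfLE (preO_mono f h))).op (midE f G V s) := by
  rw [midE_apply, midE_apply]
  change H885.ClPoint.res G _ (H885.ClPoint.res G _ s) =
    H885.ClPoint.res G _ (H885.ClPoint.res G _ s)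
  rw [← H885.ClPoint.res_comp, ← H885.ClPoint.res_comp, bcInv_nat]

/-- `Hom(ℤ_V, f_* G) = Hom(ℤ_{f⁻¹ V}, G)`. -/
def homEqE (G : Cl.Ab E) (V : Opens T) : ((ZE T).obj V ⟶ (clPush f).obj G) ≃+
    ((preF f ⋙ ZE E).obj V ⟶ G) :=
  (ev (Cl.topology T) ((opensToCl T).obj V) ((clPush f).obj G)).trans
    ((midE f G V).trans (ev (Cl.topology E) ((opensToCl E).obj (preO f V)) G).symm)

theorem homEqE_apply (G : Cl.Ab E) (V : Opens T) (s : (ZE T).obj V ⟶ (clPush f).obj G) :
    homEqE f G V s = (ev (Cl.topology E) ((opensToCl E).obj (preO f V)) G).symm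
      (midE f G V (ev (Cl.topology T) ((opensToCl T).obj V) ((clPush f).obj G) s)) := rfl

theorem homEqE_res (G : Cl.Ab E) {V V' : Opens T} (h : V' ≤ V)
    (s : (ZE T).obj V ⟶ (clPush f).obj G) :
    homEqE f G V' (ι (ZE T) h ≫ s) = ι (preF f ⋙ ZE E) h ≫ homEqE f G V s := by
  rw [homEqE_apply, homEqE_apply]
  have h1 : ev (Cl.topology T) ((opensToCl T).obj V') ((clPush f).obj G) (ι (ZE T) h ≫ s) =
      G.obj.map ((clBC f).map ((opensToCl T).map (homOfLE h))).op
        (ev (Cl.topology T) ((opensToCl T).obj V) ((clPush f).obj G) s) :=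
    ev_map_comp ((opensToCl T).map (homOfLE h)) s
  rw [h1, midE_res]
  exact (map_comp_ev_symm ((opensToCl E).map (homOfLE (preO_mono f h))) _).symm

theorem homEqE_post {G G' : Cl.Ab E} (u : G ⟶ G') (V : Opens T)
    (s : (ZE T).obj V ⟶ (clPush f).obj G) :
    homEqE f G' V (s ≫ (clPush f).map u) = homEqE f G V s ≫ u := by
  rw [homEqE_apply, homEqE_apply, ev_comp]
  have h1 := ev_symm_comp (midE f G V (ev (Cl.topology T) ((opensToCl T).obj V) ((clPush f).obj G) s)) u
  refine Eq.trans ?_ h1.symm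
  refine congrArg _ ?_
  exact H885.ClPoint.res_naturality u (bcInv f V)
    (ev (Cl.topology T) ((opensToCl T).obj V) ((clPush f).obj G) s)

/-- The comparison of homs. -/
def homEq : HomEq (ZE T) (preF f ⋙ ZE E) (clPush f) where
  e := homEqE f
  res G _ _ h s := homEqE_res f G h s
  post u V s := homEqE_post f u V s

/-- `V ↦ H^q(f⁻¹ V, G)`. -/
abbrev hp (G : Cl.Ab E) (q : ℕ) : PAb.{1} T := extPab (preF f ⋙ ZE E) G q

/-- Local constancy of `f_* G`. -/
theorem lcat_push_zero {G : Cl.Ab E} {Z : Set T} {z : T} (h : (hp f G 0).LCat Z z) :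
    (clPab ((clPush f).obj G)).LCat Z z :=
  (isoHom _).lcat ((isoZero (homEq f) G).lcat h)

/-- Local constancy of `R^1 f_* G`. -/
theorem lcat_push_one {S : ShortComplex (Cl.Ab E)} (hS : S.ShortExact) [Injective S.X₂]
    {Z : Set T} {z : T} (h : (hp f S.X₁ 1).LCat Z z) :
    (clPab (cokernel ((clPush f).map S.g))).LCat Z z :=
  (isoHom _).lcat ((isoOne (homEq f) hS isCosheaf_ZE).lcat h)

end Groth.Agent.An.H889.PushLC
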