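import Groth.Agent.An.H888.Collapse
import Groth.Agent.Etrest.ConstBasic
import Mathlib.AlgebraicGeometry.Morphisms.Smooth
import Mathlib.Data.ZMod.Basic

/-!
# S4217 from S4216 (conditional form)
-/

set_option autoImplicit false

open CategoryTheory CategoryTheory.Limits AlgebraicGeometry Opposite CategoryTheory.Abelian

namespace Groth.Agent.An.H889.S4217_of

/-- S4217 from (the statement of) S4216. -/
theorem hcmpConst_bijective
    (h4216 : ∀ (X : Scheme.{0}) [X.Over An.SC] [LocallyOfFiniteType (X ↘ An.SC)]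
      [Fact An.EtaleLH] [An.EpsCont X] [Smooth (X ↘ An.SC)]
      [Limits.PreservesFiniteLimits (An.epsPull X)]
      (F : EtCoh.Ab X) (_ : EtCoh.IsFiniteLocallyConstant F) (q : ℕ),
      Function.Bijective (An.Hcmp X F q))
    (X : Scheme.{0}) [X.Over An.SC] [LocallyOfFiniteType (X ↘ An.SC)]
    [Fact An.EtaleLH] [An.EpsCont X] [Smooth (X ↘ An.SC)]
    [Limits.PreservesFiniteLimits (An.epsPull X)] (n : ℕ) (hn : 0 < n) (q : ℕ) :
    Function.Bijective (An.HcmpConst X (ZMod n) q) := by
  haveI : NeZero n := ⟨hn.ne'⟩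
  exact (H888.Collapse.hcmpConst_bijective_iff X (ZMod n) q).2
    (h4216 X _ (Etrest.ConstBasic.isFiniteLocallyConstant_const X (ZMod n)) q)

end Groth.Agent.An.H889.S4217_of
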