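import Groth.Agent.An.H889.OCoh
import Mathlib.Analysis.Complex.Basic

/-!
# The strip lemma

`X = ℂ × T`.  A cohomology theory on `X` which is insensitive to shrinking boxes in the complement of
`D`: then the cohomology of a big box whose ramification is concentrated near one point is that of a
small square around the point.
-/

set_option autoImplicit false
universe w u

open TopologicalSpace

namespace Groth.Agent.An.H889.Strip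

open OCoh

variable {T : Type u} [TopologicalSpace T]

/-- half lines. -/
def up (a : ℝ) : Opens ℝ := ⟨Set.Ioi a, isOpen_Ioi⟩

/-- half lines. -/
def dn (a : ℝ) : Opens ℝ := ⟨Set.Iio a, isOpen_Iio⟩

@[simp] theorem mem_up {a x : ℝ} : x ∈ up a ↔ a < x := Iff.rfl

@[simp] theorem mem_dn {a x : ℝ} : x ∈ dn a ↔ x < a := Iff.rfl

/-- Nonempty open intervals. -/
def IsIv (I : Opens ℝ) : Prop := (I : Set ℝ).OrdConnected ∧ ∃ x, x ∈ I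

theorem ordConnected_up (a : ℝ) : (up a : Set ℝ).OrdConnected := Set.ordConnected_Ioi

theorem ordConnected_dn (a : ℝ) : (dn a : Set ℝ).OrdConnected := Set.ordConnected_Iio

theorem ordConnected_inf {I J : Opens ℝ} (hI : (I : Set ℝ).OrdConnected)
    (hJ : (J : Set ℝ).OrdConnected) : ((I ⊓ J : Opens ℝ) : Set ℝ).OrdConnected := by
  rw [Opens.coe_inf]
  exact hI.inter hJ

theorem isIv_top : IsIv ⊤ := ⟨by rw [Opens.coe_top]; exact Set.ordConnected_univ, 0, trivial⟩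

/-- Boxes in `ℂ × T`, in the coordinates `Re (u z)`, `Im (u z)`. -/
def bx (u : ℂ) (I J : Opens ℝ) (V : Opens T) : Opens (ℂ × T) :=
  ⟨{p | (u * p.1).re ∈ I ∧ (u * p.1).im ∈ J ∧ p.2 ∈ V}, by
    refine IsOpen.inter ?_ (IsOpen.inter ?_ ?_)
    · exact I.2.preimage (Complex.continuous_re.comp (continuous_const.mul continuous_fst))
    · exact J.2.preimage (Complex.continuous_im.comp (continuous_const.mul continuous_fst))
    · exact V.2.preimage continuous_snd⟩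

@[simp] theorem mem_bx {u : ℂ} {I J : Opens ℝ} {V : Opens T} {p : ℂ × T} :
    p ∈ bx u I J V ↔ (u * p.1).re ∈ I ∧ (u * p.1).im ∈ J ∧ p.2 ∈ V := Iff.rfl

theorem bx_mono {u : ℂ} {I J I' J' : Opens ℝ} {V V' : Opens T} (hI : I' ≤ I) (hJ : J' ≤ J)
    (hV : V' ≤ V) : bx u I' J' V' ≤ bx u I J V := fun _ hp => ⟨hI hp.1, hJ hp.2.1, hV hp.2.2⟩

/-- The box is disjoint from the ramification. -/
def Unr (D : Set (ℂ × T)) (U : Opens (ℂ × T)) : Prop := ∀ p ∈ U, p ∉ D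

/-- The cohomology theory is locally constant outside `D`. -/
structure Tame (h : OC.{w} (ℂ × T)) (𝓥 : Set (Opens T)) (D : Set (ℂ × T)) : Prop where
  ne : ∀ V ∈ 𝓥, ∃ t, t ∈ V
  basis : ∀ (t : T) (W : Opens T), t ∈ W → ∃ V ∈ 𝓥, t ∈ V ∧ V ≤ W
  eqv : ∀ (u : ℂ), u ≠ 0 → ∀ (I J I' J' : Opens ℝ) (V V' : Opens T), IsIv I → IsIv J → IsIv I' →
    IsIv J' → I' ≤ I → J' ≤ J → V ∈ 𝓥 → V' ∈ 𝓥 → V' ≤ V → Unr D (bx u I J V) →
    h.Eqv (bx u I J V) (bx u I' J' V')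
  van : ∀ (u : ℂ), u ≠ 0 → ∀ (I J : Opens ℝ) (V : Opens T), IsIv I → IsIv J → V ∈ 𝓥 →
    Unr D (bx u I J V) → ∀ q, Subsingleton (h.H (q + 1) (bx u I J V))
  fin : ∀ (u : ℂ), u ≠ 0 → ∀ (I J : Opens ℝ) (V : Opens T), IsIv I → IsIv J → V ∈ 𝓥 →
    Unr D (bx u I J V) → Finite (h.H 0 (bx u I J V))

variable {h : OC.{w} (ℂ × T)} {𝓥 : Set (Opens T)} {D : Set (ℂ × T)}

set_option maxHeartbeats 1000000 in
/-- The strip lemma. -/
theorem Tame.strip (hT : Tame h 𝓥 D) {u : ℂ} (hu : u ≠ 0) {I J : Opens ℝ}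
    (hI : (I : Set ℝ).OrdConnected) (hJ : (J : Set ℝ).OrdConnected) {x y δ ε : ℝ} (hδ : 0 < δ)
    (hδε : δ < ε) (hI0 : up (x - ε) ⊓ dn (x + ε) ≤ I) (hJ0 : up (y - ε) ⊓ dn (y + ε) ≤ J)
    {V : Opens T} (hV : V ∈ 𝓥)
    (hD : ∀ p ∈ bx u I J V, p ∈ D → |(u * p.1).re - x| ≤ δ ∧ |(u * p.1).im - y| ≤ δ) :
    h.Eqv (bx u I J V) (bx u (up (x - ε) ⊓ dn (x + ε)) (up (y - ε) ⊓ dn (y + ε)) V) := by
  have hx1 : x + (δ + ε) / 2 ∈ I := hI0 ⟨by simp; linarith, by simp; linarith⟩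
  have hx2 : x - (δ + ε) / 2 ∈ I := hI0 ⟨by simp; linarith, by simp; linarith⟩
  have hx0 : x ∈ I := hI0 ⟨by simp; linarith, by simp; linarith⟩
  have hy1 : y + (δ + ε) / 2 ∈ J := hJ0 ⟨by simp; linarith, by simp; linarith⟩
  have hy2 : y - (δ + ε) / 2 ∈ J := hJ0 ⟨by simp; linarith, by simp; linarith⟩
  have hy0 : y ∈ J := hJ0 ⟨by simp; linarith, by simp; linarith⟩
  have iI : IsIv I := ⟨hI, x, hx0⟩
  have iJ : IsIv J := ⟨hJ, y, hy0⟩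
  have iI0 : IsIv (up (x - ε) ⊓ dn (x + ε)) :=
    ⟨ordConnected_inf (ordConnected_up _) (ordConnected_dn _), x, by simp; linarith,
      by simp; linarith⟩
  have iJ0 : IsIv (up (y - ε) ⊓ dn (y + ε)) :=
    ⟨ordConnected_inf (ordConnected_up _) (ordConnected_dn _), y, by simp; linarith,
      by simp; linarith⟩
  have iIr : IsIv (I ⊓ up (x + δ)) :=
    ⟨ordConnected_inf hI (ordConnected_up _), x + (δ + ε) / 2, hx1, by simp; linarith⟩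
  have iIl : IsIv (I ⊓ dn (x - δ)) :=
    ⟨ordConnected_inf hI (ordConnected_dn _), x - (δ + ε) / 2, hx2, by simp; linarith⟩
  have iJr : IsIv (J ⊓ up (y + δ)) :=
    ⟨ordConnected_inf hJ (ordConnected_up _), y + (δ + ε) / 2, hy1, by simp; linarith⟩
  have iJl : IsIv (J ⊓ dn (y - δ)) :=
    ⟨ordConnected_inf hJ (ordConnected_dn _), y - (δ + ε) / 2, hy2, by simp; linarith⟩
  have iIr0 : IsIv ((up (x - ε) ⊓ dn (x + ε)) ⊓ up (x + δ)) :=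
    ⟨ordConnected_inf iI0.1 (ordConnected_up _), x + (δ + ε) / 2, ⟨by simp; linarith,
      by simp; linarith⟩, by simp; linarith⟩
  have iIl0 : IsIv ((up (x - ε) ⊓ dn (x + ε)) ⊓ dn (x - δ)) :=
    ⟨ordConnected_inf iI0.1 (ordConnected_dn _), x - (δ + ε) / 2, ⟨by simp; linarith,
      by simp; linarith⟩, by simp; linarith⟩
  have iJr0 : IsIv ((up (y - ε) ⊓ dn (y + ε)) ⊓ up (y + δ)) :=
    ⟨ordConnected_inf iJ0.1 (ordConnected_up _), y + (δ + ε) / 2, ⟨by simp; linarith,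
      by simp; linarith⟩, by simp; linarith⟩
  have iJl0 : IsIv ((up (y - ε) ⊓ dn (y + ε)) ⊓ dn (y - δ)) :=
    ⟨ordConnected_inf iJ0.1 (ordConnected_dn _), y - (δ + ε) / 2, ⟨by simp; linarith,
      by simp; linarith⟩, by simp; linarith⟩
  generalize hI0e : up (x - ε) ⊓ dn (x + ε) = I0 at *
  generalize hJ0e : up (y - ε) ⊓ dn (y + ε) = J0 at *
  have hU1 : Unr D (bx u I (J ⊓ up (y + δ)) V) := by
    rintro p ⟨hp1, ⟨hp2, hp2'⟩, hp3⟩ hpD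
    have := (abs_le.1 (hD p ⟨hp1, hp2, hp3⟩ hpD).2).2
    have h2 : y + δ < (u * p.1).im := hp2'
    linarith
  have hU2 : Unr D (bx u I (J ⊓ dn (y - δ)) V) := by
    rintro p ⟨hp1, ⟨hp2, hp2'⟩, hp3⟩ hpD
    have := (abs_le.1 (hD p ⟨hp1, hp2, hp3⟩ hpD).2).1
    have h2 : (u * p.1).im < y - δ := hp2'
    linarith
  have hU3 : Unr D (bx u (I ⊓ up (x + δ)) J V) := by
    rintro p ⟨⟨hp1, hp1'⟩, hp2, hp3⟩ hpD
    have := (abs_le.1 (hD p ⟨hp1, hp2, hp3⟩ hpD).1).2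
    have h2 : x + δ < (u * p.1).re := hp1'
    linarith
  have hU4 : Unr D (bx u (I ⊓ dn (x - δ)) J V) := by
    rintro p ⟨⟨hp1, hp1'⟩, hp2, hp3⟩ hpD
    have := (abs_le.1 (hD p ⟨hp1, hp2, hp3⟩ hpD).1).1
    have h2 : (u * p.1).re < x - δ := hp1'
    linarith
  -- subboxes of an unramified box
  have sub : ∀ {A B A' B' : Opens ℝ}, Unr D (bx u A B V) → A' ≤ A → B' ≤ B →
      Unr D (bx u A' B' V) := fun hh ha hb p hp => hh p ⟨ha hp.1, hb hp.2.1, hp.2.2⟩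
  have key : ∀ {A B A' B' : Opens ℝ}, IsIv A → IsIv B → IsIv A' → IsIv B' → A' ≤ A → B' ≤ B →
      Unr D (bx u A B V) → h.Eqv (bx u A B V) (bx u A' B' V) :=
    fun a b a' b' ha hb hh => hT.eqv u hu _ _ _ _ V V a b a' b' ha hb hV hV le_rfl hh
  -- step 1
  have s1 : h.Eqv (bx u I0 J0 V ⊔ bx u I (J ⊓ up (y + δ)) V) (bx u I0 J0 V) := by
    refine OC.Eqv.sup (V := bx u I (J ⊓ up (y + δ)) V) (P := bx u I0 (J0 ⊓ up (y + δ)) V)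
      le_sup_left le_sup_right le_rfl ?_ ?_ ?_
    · rintro p ⟨⟨a1, a2, a3⟩, b1, b2, b3⟩
      exact ⟨a1, ⟨a2, b2.2⟩, a3⟩
    · rintro p ⟨a1, a2, a3⟩
      exact ⟨⟨a1, a2.1, a3⟩, hI0 a1, ⟨hJ0 a2.1, a2.2⟩, a3⟩
    · exact key iI iJr iI0 iJr0 hI0 (inf_le_inf_right _ hJ0) hU1
  -- step 2
  have s2 : h.Eqv (bx u I0 J0 V ⊔ bx u I (J ⊓ up (y + δ)) V ⊔ bx u I (J ⊓ dn (y - δ)) V)
      (bx u I0 J0 V ⊔ bx u I (J ⊓ up (y + δ)) V) := by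
    refine OC.Eqv.sup (V := bx u I (J ⊓ dn (y - δ)) V) (P := bx u I0 (J0 ⊓ dn (y - δ)) V)
      le_sup_left le_sup_right le_rfl ?_ ?_ ?_
    · rintro p ⟨⟨a1, a2, a3⟩ | ⟨a1, a2, a3⟩, b1, b2, b3⟩
      · exact ⟨a1, ⟨a2, b2.2⟩, a3⟩
      · exfalso
        have h1 : y + δ < (u * p.1).im := a2.2
        have h2 : (u * p.1).im < y - δ := b2.2
        linarith
    · rintro p ⟨a1, a2, a3⟩
      exact ⟨Or.inl ⟨a1, a2.1, a3⟩, hI0 a1, ⟨hJ0 a2.1, a2.2⟩, a3⟩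
    · exact key iI iJl iI0 iJl0 hI0 (inf_le_inf_right _ hJ0) hU2
  -- side regions: `S` the side condition on the first coordinate
  have side : ∀ S : Opens ℝ, IsIv (I ⊓ S) → IsIv (I0 ⊓ S) → Unr D (bx u (I ⊓ S) J V) →
      h.Eqv (bx u (I ⊓ S) J V) (bx u (I0 ⊓ S) J0 V ⊔ bx u (I ⊓ S) (J ⊓ up (y + δ)) V ⊔
        bx u (I ⊓ S) (J ⊓ dn (y - δ)) V) := by
    intro S iS iS0 hS
    refine OC.Eqv.of_left ?_ (key iS iJ iS0 iJ0 (inf_le_inf_right _ hI0) hJ0 hS) ?_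
    · refine sup_le (sup_le ?_ ?_) ?_
      · exact bx_mono (inf_le_inf_right _ hI0) hJ0 le_rfl
      · exact bx_mono le_rfl inf_le_left le_rfl
      · exact bx_mono le_rfl inf_le_left le_rfl
    · refine OC.Eqv.trans (V := bx u (I0 ⊓ S) J0 V ⊔ bx u (I ⊓ S) (J ⊓ up (y + δ)) V) ?_ ?_
      · refine OC.Eqv.sup (V := bx u (I ⊓ S) (J ⊓ dn (y - δ)) V)
          (P := bx u (I0 ⊓ S) (J0 ⊓ dn (y - δ)) V) le_sup_left le_sup_right le_rfl ?_ ?_ ?_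
        · rintro p ⟨⟨a1, a2, a3⟩ | ⟨a1, a2, a3⟩, b1, b2, b3⟩
          · exact ⟨a1, ⟨a2, b2.2⟩, a3⟩
          · exfalso
            have h1 : y + δ < (u * p.1).im := a2.2
            have h2 : (u * p.1).im < y - δ := b2.2
            linarith
        · rintro p ⟨a1, a2, a3⟩
          exact ⟨Or.inl ⟨a1, a2.1, a3⟩, ⟨hI0 a1.1, a1.2⟩, ⟨hJ0 a2.1, a2.2⟩, a3⟩
        · exact key iS iJl iS0 iJl0 (inf_le_inf_right _ hI0) (inf_le_inf_right _ hJ0)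
            (sub hS le_rfl inf_le_left)
      · refine OC.Eqv.sup (V := bx u (I ⊓ S) (J ⊓ up (y + δ)) V)
          (P := bx u (I0 ⊓ S) (J0 ⊓ up (y + δ)) V) le_sup_left le_sup_right le_rfl ?_ ?_ ?_
        · rintro p ⟨⟨a1, a2, a3⟩, b1, b2, b3⟩
          exact ⟨a1, ⟨a2, b2.2⟩, a3⟩
        · rintro p ⟨a1, a2, a3⟩
          exact ⟨⟨a1, a2.1, a3⟩, ⟨hI0 a1.1, a1.2⟩, ⟨hJ0 a2.1, a2.2⟩, a3⟩
        · exact key iS iJr iS0 iJr0 (inf_le_inf_right _ hI0) (inf_le_inf_right _ hJ0)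
            (sub hS le_rfl inf_le_left)
  -- step 3
  have s3 : h.Eqv (bx u I0 J0 V ⊔ bx u I (J ⊓ up (y + δ)) V ⊔ bx u I (J ⊓ dn (y - δ)) V ⊔
      bx u (I ⊓ up (x + δ)) J V)
      (bx u I0 J0 V ⊔ bx u I (J ⊓ up (y + δ)) V ⊔ bx u I (J ⊓ dn (y - δ)) V) := by
    refine OC.Eqv.sup (V := bx u (I ⊓ up (x + δ)) J V) le_sup_left le_sup_right le_rfl ?_ ?_
      (side (up (x + δ)) iIr iIr0 hU3)
    · rintro p ⟨(⟨a1, a2, a3⟩ | ⟨a1, a2, a3⟩) | ⟨a1, a2, a3⟩, b1, b2, b3⟩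
      · exact Or.inl (Or.inl ⟨⟨a1, b1.2⟩, a2, a3⟩)
      · exact Or.inl (Or.inr ⟨b1, a2, a3⟩)
      · exact Or.inr ⟨b1, a2, a3⟩
    · rintro p ((⟨a1, a2, a3⟩ | ⟨a1, a2, a3⟩) | ⟨a1, a2, a3⟩)
      · exact ⟨Or.inl (Or.inl ⟨a1.1, a2, a3⟩), ⟨hI0 a1.1, a1.2⟩, hJ0 a2, a3⟩
      · exact ⟨Or.inl (Or.inr ⟨a1.1, a2, a3⟩), a1, a2.1, a3⟩
      · exact ⟨Or.inr ⟨a1.1, a2, a3⟩, a1, a2.1, a3⟩
  -- step 4
  have s4 : h.Eqv (bx u I0 J0 V ⊔ bx u I (J ⊓ up (y + δ)) V ⊔ bx u I (J ⊓ dn (y - δ)) V ⊔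
      bx u (I ⊓ up (x + δ)) J V ⊔ bx u (I ⊓ dn (x - δ)) J V)
      (bx u I0 J0 V ⊔ bx u I (J ⊓ up (y + δ)) V ⊔ bx u I (J ⊓ dn (y - δ)) V ⊔
        bx u (I ⊓ up (x + δ)) J V) := by
    refine OC.Eqv.sup (V := bx u (I ⊓ dn (x - δ)) J V) le_sup_left le_sup_right le_rfl ?_ ?_
      (side (dn (x - δ)) iIl iIl0 hU4)
    · rintro p ⟨((⟨a1, a2, a3⟩ | ⟨a1, a2, a3⟩) | ⟨a1, a2, a3⟩) | ⟨a1, a2, a3⟩, b1, b2, b3⟩
      · exact Or.inl (Or.inl ⟨⟨a1, b1.2⟩, a2, a3⟩)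
      · exact Or.inl (Or.inr ⟨b1, a2, a3⟩)
      · exact Or.inr ⟨b1, a2, a3⟩
      · exfalso
        have h1 : x + δ < (u * p.1).re := a1.2
        have h2 : (u * p.1).re < x - δ := b1.2
        linarith
    · rintro p ((⟨a1, a2, a3⟩ | ⟨a1, a2, a3⟩) | ⟨a1, a2, a3⟩)
      · exact ⟨Or.inl (Or.inl (Or.inl ⟨a1.1, a2, a3⟩)), ⟨hI0 a1.1, a1.2⟩, hJ0 a2, a3⟩
      · exact ⟨Or.inl (Or.inl (Or.inr ⟨a1.1, a2, a3⟩)), a1, a2.1, a3⟩
      · exact ⟨Or.inl (Or.inr ⟨a1.1, a2, a3⟩), a1, a2.1, a3⟩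
  have s5 : h.Eqv (bx u I J V) (bx u I0 J0 V ⊔ bx u I (J ⊓ up (y + δ)) V ⊔
      bx u I (J ⊓ dn (y - δ)) V ⊔ bx u (I ⊓ up (x + δ)) J V ⊔ bx u (I ⊓ dn (x - δ)) J V) := by
    apply OC.Eqv.of_eq
    apply le_antisymm
    · rintro p ⟨a1, a2, a3⟩
      by_cases c1 : y + δ < (u * p.1).im
      · exact Or.inl (Or.inl (Or.inl (Or.inr ⟨a1, ⟨a2, c1⟩, a3⟩)))
      by_cases c2 : (u * p.1).im < y - δ
      · exact Or.inl (Or.inl (Or.inr ⟨a1, ⟨a2, c2⟩, a3⟩))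
      by_cases c3 : x + δ < (u * p.1).re
      · exact Or.inl (Or.inr ⟨⟨a1, c3⟩, a2, a3⟩)
      by_cases c4 : (u * p.1).re < x - δ
      · exact Or.inr ⟨⟨a1, c4⟩, a2, a3⟩
      · refine Or.inl (Or.inl (Or.inl (Or.inl ⟨?_, ?_, a3⟩)))
        · rw [← hI0e]
          exact ⟨show x - ε < (u * p.1).re by linarith, show (u * p.1).re < x + ε by linarith⟩
        · rw [← hJ0e]
          exact ⟨show y - ε < (u * p.1).im by linarith, show (u * p.1).im < y + ε by linarith⟩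
    · refine sup_le (sup_le (sup_le (sup_le ?_ ?_) ?_) ?_) ?_
      · exact bx_mono hI0 hJ0 le_rfl
      · exact bx_mono le_rfl inf_le_left le_rfl
      · exact bx_mono le_rfl inf_le_left le_rfl
      · exact bx_mono inf_le_left le_rfl le_rfl
      · exact bx_mono inf_le_left le_rfl le_rfl
  exact s5.trans (s4.trans (s3.trans (s2.trans s1)))

end Groth.Agent.An.H889.Strip
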