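import Groth.Agent.An.H889.Strip
import Groth.Agent.An.H889.OCInst
import Groth.Agent.An.H537.BoxVan
import Mathlib.Analysis.SpecialFunctions.Trigonometric.Arctan

/-!
# Box-like open sets

`IsBox U`: `U` is homeomorphic to a finite power of `ℝ`; boxes `bx u I J V` with `V` box-like are
box-like.  For a cosheaf `Z` and `F` locally constant (`LCatF`) on a box-like open set: `H^q = 0` for
`q > 0`, `H^0` finite, and restriction to box-like open subsets is bijective.
-/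

set_option autoImplicit false
universe w v u t t'

open CategoryTheory Category Limits Abelian TopologicalSpace Topology

noncomputable section

namespace Groth.Agent.An.H889.TameBox

open Groth.Agent.An.H537 Gen Cosheaf OCoh OCInst Strip Box

/-- Nonempty open intervals are homeomorphic to the line. -/
theorem isIv_homeo {I : Opens ℝ} (hI : IsIv I) : Nonempty (I ≃ₜ ℝ) := by
  let e : ℝ ≃ₜ Set.Ioo (-(Real.pi / 2)) (Real.pi / 2) := Real.tanOrderIso.symm.toHomeomorph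
  let f : ℝ → ℝ := fun x => (e x : ℝ)
  have hf : IsOpenEmbedding f := (isOpen_Ioo.isOpenEmbedding_subtypeVal).comp e.isOpenEmbedding
  let S : Set ℝ := f '' (I : Set ℝ)
  have hSo : IsOpen S := hf.isOpenMap _ I.2
  have hSc : _root_.IsConnected S := by
    refine IsConnected.image ⟨hI.2, ?_⟩ f hf.continuous.continuousOn
    exact hI.1.isPreconnected
  have hb : BddBelow S := ⟨-(Real.pi / 2), by
    rintro _ ⟨x, _, rfl⟩
    exact (e x).2.1.le⟩
  have ha : BddAbove S := ⟨Real.pi / 2, by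
    rintro _ ⟨x, _, rfl⟩
    exact (e x).2.2.le⟩
  have hS : S = Set.Ioo (sInf S) (sSup S) := by
    apply Set.Subset.antisymm
    · intro x hx
      obtain ⟨ε, hε, hball⟩ := Metric.isOpen_iff.1 hSo x hx
      have h1 : x - ε / 2 ∈ S := hball (by
        rw [Metric.mem_ball, Real.dist_eq, show x - ε / 2 - x = -(ε / 2) by ring, abs_neg,
          abs_of_pos (half_pos hε)]
        exact half_lt_self hε)
      have h2 : x + ε / 2 ∈ S := hball (by
        rw [Metric.mem_ball, Real.dist_eq, show x + ε / 2 - x = (ε / 2) by ring,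
          abs_of_pos (half_pos hε)]
        exact half_lt_self hε)
      have h3 := csInf_le hb h1
      have h4 := le_csSup ha h2
      constructor <;> linarith
    · exact hSc.Ioo_csInf_csSup_subset hb ha
  obtain ⟨x, hx⟩ := hSc.nonempty
  have hlt : sInf S < sSup S := by
    rw [hS] at hx
    exact hx.1.trans hx.2
  have e1 : I ≃ₜ S := hf.isEmbedding.homeomorphImage (I : Set ℝ)
  have e2 : S ≃ₜ Set.Ioo (sInf S) (sSup S) := Homeomorph.setCongr hS
  let c : ℝ := Real.pi / (sSup S - sInf S)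
  have hc : 0 < c := div_pos Real.pi_pos (sub_pos.2 hlt)
  let d : ℝ := -(Real.pi / 2) - c * sInf S
  have e3 : Set.Ioo (sInf S) (sSup S) ≃ₜ
      (affineHomeomorph c d hc.ne' '' Set.Ioo (sInf S) (sSup S) : Set ℝ) :=
    (affineHomeomorph c d hc.ne').image _
  have h5 : affineHomeomorph c d hc.ne' '' Set.Ioo (sInf S) (sSup S) =
      Set.Ioo (-(Real.pi / 2)) (Real.pi / 2) := by
    rw [affineHomeomorph_image_Ioo _ _ _ _ hc]
    have h6 : c * (sSup S - sInf S) = Real.pi := div_mul_cancel₀ _ (sub_pos.2 hlt).ne'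
    congr 1
    · simp only [d]; ring
    · simp only [d]; linarith
  have e4 := Homeomorph.setCongr h5
  exact ⟨((e1.trans e2).trans (e3.trans e4)).trans e.symm⟩

/-- Box-like open sets. -/
def IsBox {X : Type t} [TopologicalSpace X] (U : Opens X) : Prop :=
  ∃ (n : Type) (_ : Fintype n) (_ : DecidableEq n), Nonempty ((n → ℝ) ≃ₜ U)

variable {T : Type t} [TopologicalSpace T]

/-- Coordinates on a box. -/
def bxHomeo {u : ℂ} (hu : u ≠ 0) (I J : Opens ℝ) (V : Opens T) : bx u I J V ≃ₜ I × J × V where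
  toFun p := (⟨(u * p.1.1).re, p.2.1⟩, ⟨(u * p.1.1).im, p.2.2.1⟩, ⟨p.1.2, p.2.2.2⟩)
  invFun q := ⟨(u⁻¹ * ⟨q.1.1, q.2.1.1⟩, q.2.2.1), by
    rw [mem_bx, ← mul_assoc, mul_inv_cancel₀ hu, one_mul]
    exact ⟨q.1.2, q.2.1.2, q.2.2.2⟩⟩
  left_inv p := by
    apply Subtype.ext
    apply Prod.ext
    · change u⁻¹ * ⟨(u * p.1.1).re, (u * p.1.1).im⟩ = p.1.1
      rw [Complex.eta, ← mul_assoc, inv_mul_cancel₀ hu, one_mul]
    · rfl
  right_inv q := by
    have h : u * (u⁻¹ * (⟨q.1.1, q.2.1.1⟩ : ℂ)) = ⟨q.1.1, q.2.1.1⟩ := by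
      rw [← mul_assoc, mul_inv_cancel₀ hu, one_mul]
    apply Prod.ext
    · apply Subtype.ext
      change (u * (u⁻¹ * (⟨q.1.1, q.2.1.1⟩ : ℂ))).re = q.1.1
      rw [h]
    · apply Prod.ext
      · apply Subtype.ext
        change (u * (u⁻¹ * (⟨q.1.1, q.2.1.1⟩ : ℂ))).im = q.2.1.1
        rw [h]
      · rfl
  continuous_toFun := by
    refine Continuous.prodMk ?_ (Continuous.prodMk ?_ ?_)
    · exact Continuous.subtype_mk (Complex.continuous_re.comp (continuous_const.mul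
        (continuous_fst.comp continuous_subtype_val))) _
    · exact Continuous.subtype_mk (Complex.continuous_im.comp (continuous_const.mul
        (continuous_fst.comp continuous_subtype_val))) _
    · exact Continuous.subtype_mk (continuous_snd.comp continuous_subtype_val) _
  continuous_invFun := by
    refine Continuous.subtype_mk (Continuous.prodMk (continuous_const.mul ?_) ?_) _
    · exact Complex.equivRealProdCLM.symm.continuous.comp
        ((continuous_subtype_val.comp continuous_fst).prodMk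
          (continuous_subtype_val.comp (continuous_fst.comp continuous_snd)))
    · exact continuous_subtype_val.comp (continuous_snd.comp continuous_snd)

theorem isBox_bx {u : ℂ} (hu : u ≠ 0) {I J : Opens ℝ} {V : Opens T} (hI : IsIv I) (hJ : IsIv J)
    (hV : IsBox V) : IsBox (bx u I J V) := by
  obtain ⟨n, i1, i2, ⟨e⟩⟩ := hV
  obtain ⟨eI⟩ := isIv_homeo hI
  obtain ⟨eJ⟩ := isIv_homeo hJ
  refine ⟨Unit ⊕ (Unit ⊕ n), inferInstance, inferInstance, ⟨?_⟩⟩
  refine (Homeomorph.sumArrowHomeomorphProdArrow.trans ?_).trans (bxHomeo hu I J V).symm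
  refine Homeomorph.prodCongr ((Homeomorph.funUnique Unit ℝ).trans eI.symm) ?_
  exact Homeomorph.sumArrowHomeomorphProdArrow.trans
    (Homeomorph.prodCongr ((Homeomorph.funUnique Unit ℝ).trans eJ.symm) e)

theorem IsBox.nonempty {X : Type t} [TopologicalSpace X] {U : Opens X} (h : IsBox U) :
    ∃ x, x ∈ U := by
  obtain ⟨n, i1, i2, ⟨e⟩⟩ := h
  exact ⟨(e 0).1, (e 0).2⟩

section Img

variable {Y : Type t} [TopologicalSpace Y] {A : Type u} [Category.{v} A]
  {Z : Opens Y ⥤ A} {B : Type t'} [TopologicalSpace B]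

/-- Direct image of opens along an open map. -/
def img (ψ : B → Y) (hψ : IsOpenMap ψ) : Opens B ⥤ Opens Y where
  obj U := ⟨ψ '' U, hψ _ U.2⟩
  map h := homOfLE (Set.image_mono (leOfHom h))

theorem img_le {ψ : B → Y} {hψ : IsOpenMap ψ} {U V : Opens B} (h : V ≤ U) :
    (img ψ hψ).obj V ≤ (img ψ hψ).obj U := Set.image_mono h

variable [Abelian A]

theorem cosheaf_img (hZ : IsCosheaf Z) (ψ : B → Y) (hψ : IsOpenEmbedding ψ) :
    IsCosheaf (img ψ hψ.isOpenMap ⋙ Z) := by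
  have hcov : ∀ {I : Type} (U : I → Opens B) (V : Opens B) (_ : V ≤ iSup U),
      (img ψ hψ.isOpenMap).obj V ≤ ⨆ i, (img ψ hψ.isOpenMap).obj (U i) := by
    rintro I U V hV _ ⟨x, hx, rfl⟩
    obtain ⟨i, hx'⟩ := Opens.mem_iSup.1 (hV hx)
    exact Opens.mem_iSup.2 ⟨i, x, hx', rfl⟩
  refine ⟨fun {V U} h => hZ.mono (img_le h), ?_, ?_, ?_⟩
  · intro I U V hi hV F f g hfg
    exact hZ.hom_ext (fun i => (img ψ hψ.isOpenMap).obj (U i)) _ (fun i => img_le (hi i))
      (hcov U V hV) f g hfg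
  · intro I U V hi hV F s hs
    refine hZ.glue (fun i => (img ψ hψ.isOpenMap).obj (U i)) _ (fun i => img_le (hi i))
      (hcov U V hV) s (fun i j => ?_)
    have e : (img ψ hψ.isOpenMap).obj (U i) ⊓ (img ψ hψ.isOpenMap).obj (U j) ≤
        (img ψ hψ.isOpenMap).obj (U i ⊓ U j) := by
      rintro _ ⟨⟨x, hx, rfl⟩, ⟨y, hy, hxy⟩⟩
      obtain rfl := hψ.injective hxy
      exact ⟨y, ⟨hx, hy⟩, rfl⟩
    have := congrArg (fun z => ι Z e ≫ z) (hs i j)
    change ι Z e ≫ ι Z (img_le inf_le_left) ≫ s i = ι Z e ≫ ι Z (img_le inf_le_right) ≫ s j at this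
    rw [← assoc, ← assoc, ι_comp, ι_comp] at this
    exact this
  · intro I Q p _ U s b hb
    obtain ⟨V, hVU, hbV, t, ht⟩ := hZ.lift p s (ψ b) ⟨b, hb, rfl⟩
    let V' : Opens B := ⟨ψ ⁻¹' V, V.2.preimage hψ.continuous⟩ ⊓ U
    have h1 : (img ψ hψ.isOpenMap).obj V' ≤ V := by
      rintro _ ⟨x, hx, rfl⟩
      exact hx.1
    refine ⟨V', inf_le_right, ⟨hbV, hb⟩, ι Z h1 ≫ t, ?_⟩
    rw [assoc, ht, ← assoc, ι_comp]
    rfl

end Img

section Main

variable {Y : Type t} [TopologicalSpace Y] {A : Type u} [Category.{v} A] [Abelian A]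
  (Z : Opens Y ⥤ A) (F : A)

/-- `F` is locally constant with finite stalks near `p`. -/
def LCatF (p : Y) : Prop := ∃ N : Opens Y, p ∈ N ∧ ∀ (V V' : Opens Y) (h : V' ≤ V), V ≤ N →
  _root_.IsConnected (V : Set Y) → _root_.IsConnected (V' : Set Y) → Bij Z F h ∧ Finite (Z.obj V ⟶ F)

variable {Z F}

theorem exists_obox {n : Type} [Fintype n] (W : Set (n → ℝ)) (hW : IsOpen W) (x : n → ℝ)
    (hx : x ∈ W) : ∃ a b, (∀ i, a i < x i) ∧ (∀ i, x i < b i) ∧ (obox a b : Set (n → ℝ)) ⊆ W := by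
  obtain ⟨ε, hε, hball⟩ := Metric.isOpen_iff.1 hW x hx
  refine ⟨fun i => x i - ε, fun i => x i + ε, fun i => by linarith, fun i => by linarith,
    fun y hy => hball ?_⟩
  rw [Metric.mem_ball, dist_pi_lt_iff hε]
  intro i
  have := hy i
  rw [Real.dist_eq, abs_lt]
  constructor <;> linarith [this.1, this.2]

theorem isConnected_obox {n : Type} [Fintype n] {a b : n → ℝ} (h : ∀ i, a i < b i) :
    _root_.IsConnected (obox a b : Set (n → ℝ)) := by
  have e : (obox a b : Set (n → ℝ)) = Set.pi Set.univ (fun i => Set.Ioo (a i) (b i)) := by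
    ext x
    exact ⟨fun h i _ => h i, fun h i => h i trivial⟩
  refine ⟨⟨fun i => (a i + b i) / 2, fun i => ⟨by linarith [h i], by linarith [h i]⟩⟩, ?_⟩
  rw [e]
  exact isPreconnected_univ_pi fun i => isPreconnected_Ioo

theorem isConnected_img {B : Type t'} [TopologicalSpace B] {ψ : B → Y} (hψ : IsOpenEmbedding ψ)
    {U : Opens B} (hU : _root_.IsConnected (U : Set B)) :
    _root_.IsConnected ((img ψ hψ.isOpenMap).obj U : Set Y) :=
  hU.image ψ hψ.continuous.continuousOn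

theorem lcBox {n : Type} [Fintype n] (ψ : (n → ℝ) → Y) (hψ : IsOpenEmbedding ψ)
    (hF : ∀ x, LCatF Z F (ψ x)) : LCBox (img ψ hψ.isOpenMap ⋙ Z) F := by
  intro x
  obtain ⟨N, hxN, hN⟩ := hF x
  obtain ⟨a, b, ha, hb, hab⟩ := exists_obox (ψ ⁻¹' N) (N.2.preimage hψ.continuous) x hxN
  refine ⟨a, b, ha, hb, ?_⟩
  intro a₁ b₁ a₂ b₂ h₁ h₂ h₃ h₄ h₅
  have h6 : ∀ i, a₁ i < b₁ i := fun i => (h₂ i).trans_lt ((h₅ i).trans_le (h₃ i))
  refine (hN ((img ψ hψ.isOpenMap).obj (obox a₁ b₁)) ((img ψ hψ.isOpenMap).obj (obox a₂ b₂))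
    (img_le (obox_mono h₂ h₃)) ?_ (isConnected_img hψ (isConnected_obox h6))
    (isConnected_img hψ (isConnected_obox h₅))).1
  rintro _ ⟨y, hy, rfl⟩
  exact hab (obox_mono h₁ h₄ hy)

/-- The open embedding of a chart. -/
theorem chart {U : Opens Y} {n : Type} (e : (n → ℝ) ≃ₜ U) :
    IsOpenEmbedding (fun x => (e x : Y)) := (U.2.isOpenEmbedding_subtypeVal).comp e.isOpenEmbedding

theorem img_top {U : Opens Y} {n : Type} (e : (n → ℝ) ≃ₜ U) :
    (img _ (chart e).isOpenMap).obj ⊤ = U := by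
  apply Opens.ext
  ext x
  constructor
  · rintro ⟨y, _, rfl⟩
    exact (e y).2
  · intro hx
    exact ⟨e.symm ⟨x, hx⟩, trivial, by simp⟩

variable (hZ : IsCosheaf Z)
include hZ

/-- small good connected sets in a box-like open set. -/
theorem exists_small {U : Opens Y} (hU : IsBox U) (hF : ∀ p ∈ U, LCatF Z F p) {W : Opens Y}
    {p : Y} (hpW : p ∈ W) (hWU : W ≤ U) :
    ∃ (V : Opens Y) (h : V ≤ U), V ≤ W ∧ p ∈ V ∧ _root_.IsConnected (V : Set Y) ∧ Bij Z F h := by
  obtain ⟨n, i1, i2, ⟨e⟩⟩ := hU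
  have hψ := chart e
  have hp : (fun x => (e x : Y)) (e.symm ⟨p, hWU hpW⟩) = p := by simp
  obtain ⟨a, b, ha, hb, hab⟩ := exists_obox ((fun x => (e x : Y)) ⁻¹' W)
    (W.2.preimage hψ.continuous) (e.symm ⟨p, hWU hpW⟩) (by
      change ((e (e.symm ⟨p, hWU hpW⟩) : U) : Y) ∈ W
      rw [e.apply_symm_apply]
      exact hpW)
  have h1 : ∀ i, a i < b i := fun i => (ha i).trans (hb i)
  have h2 := BoxVan.bij_top (cosheaf_img hZ _ hψ) (lcBox _ hψ (fun x => hF _ (e x).2)) h1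
  have h3 : (img _ hψ.isOpenMap).obj (obox a b) ≤ W := by
    rintro _ ⟨y, hy, rfl⟩
    exact hab hy
  refine ⟨(img _ hψ.isOpenMap).obj (obox a b), h3.trans hWU, h3,
    ⟨_, fun i => ⟨ha i, hb i⟩, hp⟩, isConnected_img hψ (isConnected_obox h1), ?_⟩
  have h4 : Bij Z F (img_le (le_top) : (img _ hψ.isOpenMap).obj (obox a b) ≤
    (img _ hψ.isOpenMap).obj ⊤) := h2
  exact h4.congr' (img_top e) rfl _

theorem finite_box {U : Opens Y} (hU : IsBox U) (hF : ∀ p ∈ U, LCatF Z F p) :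
    Finite (Z.obj U ⟶ F) := by
  obtain ⟨p, hp⟩ := hU.nonempty
  obtain ⟨N, hpN, hN⟩ := hF p hp
  obtain ⟨V, h, hVW, hpV, hc, hb⟩ := exists_small hZ hU hF (W := N ⊓ U) ⟨hpN, hp⟩ inf_le_right
  have := (hN V V le_rfl (hVW.trans inf_le_left) hc hc).2
  exact Finite.of_injective _ hb.1

theorem bij_box {U U' : Opens Y} (hU : IsBox U) (hF : ∀ p ∈ U, LCatF Z F p) (hU' : IsBox U')
    (h : U' ≤ U) : Bij Z F h := by
  obtain ⟨p, hp⟩ := hU'.nonempty
  obtain ⟨N, hpN, hN⟩ := hF p (h hp)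
  obtain ⟨V, h1, hVW, hpV, hc, hb⟩ := exists_small hZ hU hF (W := N ⊓ U') ⟨hpN, hp⟩
    (inf_le_right.trans h)
  obtain ⟨V', h1', hVW', hpV', hc', hb'⟩ := exists_small hZ hU' (fun p hp => hF p (h hp))
    (W := V) hpV (hVW.trans inf_le_right)
  have h2 := (hN V V' hVW' (hVW.trans inf_le_left) hc hc').1
  have h3 : Bij Z F (h1'.trans h) := hb.comp h2
  exact Bij.of_comp_left (h' := h1') hb' h3

variable [HasExt.{w} A] [EnoughInjectives A]

theorem zero_box {U : Opens Y} (hU : IsBox U) (hF : ∀ p ∈ U, LCatF Z F p) (q : ℕ) :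
    Subsingleton ((ofCosheaf hZ F).H (q + 1) U) := by
  obtain ⟨n, i1, i2, ⟨e⟩⟩ := hU
  have hψ := chart e
  have h0 := BoxVan.eq_zero_top (cosheaf_img hZ _ hψ) (lcBox _ hψ (fun x => hF _ (e x).2)) q
  have h1 : Subsingleton ((ofCosheaf hZ F).H (q + 1) ((img _ hψ.isOpenMap).obj ⊤)) :=
    ⟨fun a b => (h0 a).trans (h0 b).symm⟩
  rwa [img_top e] at h1

theorem fin_box {U : Opens Y} (hU : IsBox U) (hF : ∀ p ∈ U, LCatF Z F p) :
    Finite ((ofCosheaf hZ F).H 0 U) := by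
  have := finite_box hZ hU hF
  exact Finite.of_surjective (Ext.mk₀ : (Z.obj U ⟶ F) → Ext (Z.obj U) F 0)
    (Ext.mk₀_bijective _ _).2

theorem eqv_box {U U' : Opens Y} (hU : IsBox U) (hF : ∀ p ∈ U, LCatF Z F p) (hU' : IsBox U')
    (h : U' ≤ U) : (ofCosheaf hZ F).Eqv U U' := by
  refine ⟨h, fun q => ?_⟩
  cases q with
  | zero =>
    have hb := bij_box hZ hU hF hU' h
    constructor
    · intro a b hab
      obtain ⟨f, rfl⟩ := exists_mk₀ Z a
      obtain ⟨g, rfl⟩ := exists_mk₀ Z b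
      have h1 : Gen.res Z F 0 (homOfLE h) (Ext.mk₀ f) = Gen.res Z F 0 (homOfLE h) (Ext.mk₀ g) := hab
      rw [res_mk₀, res_mk₀] at h1
      rw [hb.1 (mk₀_inj Z h1)]
    · intro a
      obtain ⟨f, rfl⟩ := exists_mk₀ Z a
      obtain ⟨g, hg⟩ := hb.2 f
      refine ⟨Ext.mk₀ g, ?_⟩
      change Gen.res Z F 0 (homOfLE h) (Ext.mk₀ g) = _
      rw [res_mk₀]
      exact congrArg Ext.mk₀ hg
  | succ q =>
    have h1 := zero_box hZ hU hF q
    have h2 := zero_box hZ hU' (fun p hp => hF p (h hp)) q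
    exact ⟨fun a b _ => Subsingleton.elim _ _, fun b => ⟨0, Subsingleton.elim _ _⟩⟩

end Main

section Tame

variable {T : Type t} [TopologicalSpace T] {A : Type u} [Category.{v} A] [Abelian A]
  {Z : Opens (ℂ × T) ⥤ A} (hZ : IsCosheaf Z) {F : A} [HasExt.{w} A] [EnoughInjectives A]

/-- The box-like open subsets. -/
def boxes (T : Type t) [TopologicalSpace T] : Set (Opens T) := {V | IsBox V}

/-- A theory which is locally constant outside `D` is tame. -/
theorem tame (hT : ∀ (t : T) (W : Opens T), t ∈ W → ∃ V : Opens T, IsBox V ∧ t ∈ V ∧ V ≤ W)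
    {D : Set (ℂ × T)} (hF : ∀ p, p ∉ D → LCatF Z F p) :
    Tame (ofCosheaf hZ F) (boxes T) D where
  ne _ hV := IsBox.nonempty hV
  basis := hT
  eqv _ hu _ _ _ _ _ _ iI iJ iI' iJ' kI kJ hV hV' k hU :=
    eqv_box hZ (isBox_bx hu iI iJ hV) (fun p hp => hF p (hU p hp)) (isBox_bx hu iI' iJ' hV')
      (bx_mono kI kJ k)
  van _ hu _ _ _ iI iJ hV hU q := zero_box hZ (isBox_bx hu iI iJ hV) (fun p hp => hF p (hU p hp)) q
  fin _ hu _ _ _ iI iJ hV hU := fin_box hZ (isBox_bx hu iI iJ hV) (fun p hp => hF p (hU p hp))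

end Tame

end Groth.Agent.An.H889.TameBox
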