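import Groth.Agent.An.H889.PushLC

/-!
# Direct images of constant sheaves along `E → ℂ × T → T`

`π : E → ℂ × T` closed with finite fibres, a covering outside `D`, `D → T` proper with finite fibres.
* `dies` : `R^q f_* M = 0` for `q ≥ 2` (local killing of classes);
* `lcat_zero`, `lcat_one` : `f_* M` and `R^1 f_* M` are locally constant along every subset of `T`
  over which `D` and `π⁻¹ D → D` are local homeomorphisms.
-/

set_option autoImplicit false

open CategoryTheory Limits Opposite Abelian TopologicalSpace Topology An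

noncomputable section

namespace Groth.Agent.An.H889.TopMain

open Groth.Agent.An.H537 Cosheaf OCoh PabLoc ConstF PushCl AbsOne PushLC OCInst TameBox Strip Chain
open Groth.Agent.An.H884.ClBC Groth.Agent.An.H884.ClPush
open Groth.Agent.An.H888 ClsH ClsLeray
open Groth.Agent.An.H867.AcalDef

/-- The topological situation. -/
structure Sit (E T : Type) [TopologicalSpace E] [TopologicalSpace T] (π : C(E, ℂ × T))
    (D : Set (ℂ × T)) : Prop where
  t2 : T2Space E
  cl : IsClosedMap π
  fin : ∀ b, (π ⁻¹' {b}).Finite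
  ram : Ram D
  cov : ∀ p, p ∉ D → IsEvenlyCovered π p (π ⁻¹' {p})
  base : ∀ (t : T) (W : Opens T), t ∈ W → ∃ V : Opens T, IsBox V ∧ t ∈ V ∧ V ≤ W

/-- The projection. -/
abbrev pr {E T : Type} [TopologicalSpace E] [TopologicalSpace T] (π : C(E, ℂ × T)) : C(E, T) :=
  ContinuousMap.snd.comp π

variable {E T : Type} [TopologicalSpace E] [TopologicalSpace T] {π : C(E, ℂ × T)}
  {D : Set (ℂ × T)} (X : Sit E T π D) (M : Type) [AddCommGroup M] [Finite M]

/-- The cohomology theory `U ↦ H^q(π⁻¹ U, M)` on `ℂ × T`. -/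
def oc : OC.{1} (ℂ × T) :=
  have := X.t2
  ofCosheaf (comap (isCosheaf_ZE (E := E)) π π.continuous X.cl X.fin) (Cl.const E M)

theorem tame_oc : Tame (oc X M) (boxes T) D := by
  have := X.t2
  refine tame _ X.base (fun p hp => ?_)
  have h1 := X.cov p hp
  have h2 : Finite (π ⁻¹' {p}) := (X.fin p).to_subtype
  exact lcatF_of_isEvenlyCovered (constZE M) isCosheaf_ZE π π.continuous h1

include X in
/-- `R^q f_* M = 0` for `q ≥ 2`. -/
theorem dies : DiesFrom.{1, 1} (clBC (pr π)) (Cl.topology T) 2 (Cl.const E M) := by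
  refine diesFrom_two (pr π) (Cl.const E M) ?_
  intro q t W ht x
  exact Chain4.vanish_cyl (tame_oc X M) X.ram q ht x

/-- The situation along `Z`, at `z`. -/
structure AlongT (π : C(E, ℂ × T)) (D : Set (ℂ × T)) (Z : Set T) (z : T) : Prop where
  up : ∀ e, π e ∈ D → (π e).2 = z → Sct π {p | p ∈ D ∧ p.2 ∈ Z} e
  ex : ∀ c, (c, z) ∈ D → ∀ N : Opens (ℂ × T), (c, z) ∈ N →
    ∃ V : Opens T, z ∈ V ∧ ∀ t ∈ V, t ∈ Z → ∃ c', (c', t) ∈ D ∧ (c', t) ∈ N
  uniq : ∀ c, (c, z) ∈ D → ∃ N : Opens (ℂ × T), (c, z) ∈ N ∧ ∀ c' c'' t, t ∈ Z → (c', t) ∈ D →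
    (c'', t) ∈ D → (c', t) ∈ N → (c'', t) ∈ N → c' = c''

variable {Z : Set T} {z : T} (hA : AlongT π D Z z)
include hA

theorem along_oc : Chain3.Along (oc X M) D Z z where
  ex := hA.ex
  uniq := hA.uniq
  lc c hc := by
    have := X.t2
    exact lcat_push (constZE M) isCosheaf_ZE π π.continuous X.cl X.fin (fun e he =>
      hA.up e (by rw [he]; exact hc) (by rw [he]))

include X in
theorem lcat_hp_zero : (hp (pr π) (Cl.const E M) 0).LCat Z z :=
  (Chain4.lcat_cyl (tame_oc X M) X.ram (along_oc X M hA)).1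

include X in
theorem lcat_hp_one : (hp (pr π) (Cl.const E M) 1).LCat Z z :=
  (Chain4.lcat_cyl (tame_oc X M) X.ram (along_oc X M hA)).2

include X in
/-- `f_* M` is locally constant along `Z`. -/
theorem lcat_zero : (clPab ((clPush (pr π)).obj (Cl.const E M))).LCat Z z :=
  lcat_push_zero (pr π) (lcat_hp_zero X M hA)

include X in
/-- `R^1 f_* M` is locally constant along `Z`. -/
theorem lcat_one {S : ShortComplex (Cl.Ab E)} (hS : S.ShortExact) [Injective S.X₂]
    (e : S.X₁ = Cl.const E M) :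
    (clPab (cokernel ((clPush (pr π)).map S.g))).LCat Z z :=
  lcat_push_one (pr π) hS (by rw [e]; exact lcat_hp_one X M hA)

end Groth.Agent.An.H889.TopMain
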